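import Groth.Agent.Lib.ModVal8.Main
import Groth.Agent.Lib.AicCover.Points
import Groth.Agent.Lib.AicH2.Alg

/-!
# Absolutely integrally closed interiors
-/

set_option autoImplicit false
set_option backward.isDefEq.respectTransparency false
set_option linter.style.haveILetI false

universe u

open AlgebraicGeometry

namespace GrothLib.ModVal8

theorem hasMonicRoots_of_isAIC {R : Type*} [CommRing R] (h : Curves.IsAIC R) : AicCover.HasMonicRoots R :=
  fun p hp h0 => h p hp (Nat.pos_of_ne_zero h0)

theorem isAIC_of_hasMonicRoots {R : Type*} [CommRing R] (h : AicCover.HasMonicRoots R) : Curves.IsAIC R :=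
  fun p hp h0 => h p hp h0.ne'

/-- The localisation away from a nonzero element is a domain with roots of monic polynomials. -/
theorem isDomain_isAIC_away {A : Type u} [CommRing A] [IsDomain A] (hA : Curves.IsAIC A) (a : A)
    (ha : a ∈ nonZeroDivisors A) (L : Type u) [CommRing L] [Algebra A L] [IsLocalization.Away a L]
    [IsLocalRing L] : IsDomain L ∧ Curves.IsAIC L := by
  have hd : IsDomain L :=
    IsLocalization.isDomain_of_le_nonZeroDivisors L (M := Submonoid.powers a) (Submonoid.powers_le.2 ha)
  let p : Ideal A := (IsLocalRing.maximalIdeal L).comap (algebraMap A L)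
  haveI : p.IsPrime := Ideal.IsPrime.comap _
  haveI : IsLocalization p.primeCompl L := IsLocalization.of_le (M := Submonoid.powers a) (S := L) p.primeCompl
    (Submonoid.powers_le.2 fun h => (IsLocalRing.mem_maximalIdeal _).1 (Ideal.mem_comap.1 h)
      (IsLocalization.map_units L (⟨a, Submonoid.mem_powers a⟩ : Submonoid.powers a)))
    (fun r hr => by
      by_contra hu
      exact hr ((IsLocalRing.mem_maximalIdeal _).2 hu))
  exact ⟨hd, isAIC_of_hasMonicRoots (AicCover.hasMonicRoots_of_isLocalization p (hasMonicRoots_of_isAIC hA))⟩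

/-- The fraction field of a prime quotient is algebraically closed. -/
theorem isAlgClosed_fractionRing_quotient {A : Type u} [CommRing A] (hA : Curves.IsAIC A) (p : Ideal A)
    [p.IsPrime] : IsAlgClosed (FractionRing (A ⧸ p)) := by
  have hq : AicCover.HasMonicRoots (A ⧸ p) :=
    hasMonicRoots_of_isAIC (AicH2.isAIC_of_surjective hA (Ideal.Quotient.mk p) Ideal.Quotient.mk_surjective)
  haveI : IsLocalization (⊥ : Ideal (A ⧸ p)).primeCompl (FractionRing (A ⧸ p)) := by
    have h : (⊥ : Ideal (A ⧸ p)).primeCompl = nonZeroDivisors (A ⧸ p) := by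
      ext x
      rw [mem_nonZeroDivisors_iff_ne_zero]
      exact Iff.rfl
    rw [h]
    exact Localization.isLocalization
  have h := AicCover.hasMonicRoots_of_isLocalization (L := FractionRing (A ⧸ p)) (⊥ : Ideal (A ⧸ p)) hq
  refine IsAlgClosed.of_exists_root _ fun f hf hirr => ?_
  exact h f hf hirr.natDegree_pos.ne'

/-- The interior of a pair with absolutely integrally closed local domain of functions. -/
theorem isDomain_isAIC_interior {P : ModPair.Pair.{u}} [IsAffine P.total] [IsLocalRing Γ(P.total, ⊤)]
    [IsDomain Γ(P.total, ⊤)] (hA : Curves.IsAIC Γ(P.total, ⊤))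
    (hloc : IsLocalRing Γ((ModPair.interior P.mod : Scheme.{u}), ⊤)) :
    IsDomain Γ((ModPair.interior P.mod : Scheme.{u}), ⊤) ∧
      Curves.IsAIC Γ((ModPair.interior P.mod : Scheme.{u}), ⊤) := by
  obtain ⟨a, ha, -, hint⟩ := exists_modulus P
  rw [hint] at hloc ⊢
  haveI : IsLocalRing Γ(P.total, P.total.basicOpen a) := (interiorEquiv (P.total.basicOpen a)).isLocalRing
  obtain ⟨hd, hc⟩ := isDomain_isAIC_away hA a ha Γ(P.total, P.total.basicOpen a)
  let e := (interiorEquiv (P.total.basicOpen a)).symm
  exact ⟨e.symm.toMulEquiv.isDomain _, AicH2.isAIC_of_surjective hc e.toRingHom e.surjective⟩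

end GrothLib.ModVal8
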