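import Mathlib.RingTheory.Localization.AtPrime.Basic
import Mathlib.RingTheory.Localization.Away.Basic
import Mathlib.RingTheory.Localization.FractionRing
import Mathlib.RingTheory.LocalRing.ResidueField.Basic
import Mathlib.RingTheory.Valuation.ValuationRing

/-!
# Local rings in which the finitely generated ideals containing a power of `a` are principal
-/

set_option autoImplicit false
set_option linter.style.haveILetI false

universe u

namespace GrothLib.ModVal8

variable {A : Type u} [CommRing A] (a : A)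

/-- Every finitely generated ideal inside `(a)` containing a power of `a` is principal. -/
def PrincNear : Prop :=
  ∀ J : Ideal A, J.FG → J ≤ Ideal.span {a} → ∀ n : ℕ, a ^ n ∈ J → ∃ d, J = Ideal.span {d}

variable [IsLocalRing A] {a}

theorem PrincNear.dvd_or_dvd (h : PrincNear a) (ha : a ∈ nonZeroDivisors A) {x y : A} {n : ℕ}
    (hn : a ^ n ∈ Ideal.span {x, y}) : x ∣ y ∨ y ∣ x := by
  classical
  obtain ⟨d, hd⟩ := h (Ideal.span {a * x, a * y}) ⟨{a * x, a * y}, by simp⟩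
    (by
      rw [Ideal.span_le]
      rintro _ (rfl | rfl)
      · exact Ideal.mem_span_singleton'.2 ⟨x, mul_comm _ _⟩
      · exact Ideal.mem_span_singleton'.2 ⟨y, mul_comm _ _⟩)
    (n + 1) (by
      obtain ⟨u, v, huv⟩ := Ideal.mem_span_pair.1 hn
      exact Ideal.mem_span_pair.2 ⟨u, v, by rw [pow_succ, ← huv]; ring⟩)
  obtain ⟨s, hs⟩ := Ideal.mem_span_singleton'.1 (hd ▸ Ideal.subset_span (Set.mem_insert _ _) : a * x ∈ Ideal.span {d})
  obtain ⟨t, ht⟩ := Ideal.mem_span_singleton'.1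
    (hd ▸ Ideal.subset_span (Set.mem_insert_of_mem _ rfl) : a * y ∈ Ideal.span {d})
  obtain ⟨u, v, huv⟩ := Ideal.mem_span_pair.1 (hd.symm ▸ Ideal.mem_span_singleton_self d : d ∈ Ideal.span {a * x, a * y})
  have hd' : d ∈ nonZeroDivisors A := by
    obtain ⟨c, e, hce⟩ := Ideal.mem_span_pair.1 hn
    have h1 : d * (c * s + e * t) = a ^ (n + 1) := by
      rw [pow_succ, ← hce]; linear_combination c * hs + e * ht
    exact (mul_mem_nonZeroDivisors.1 (h1.symm ▸ pow_mem ha (n + 1))).1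
  have h1 : u * s + v * t = 1 := by
    refine sub_eq_zero.1 ((mul_left_mem_nonZeroDivisors_eq_zero_iff hd').1 ?_)
    linear_combination huv + u * hs + v * ht
  rcases IsLocalRing.isUnit_or_isUnit_of_isUnit_add (h1.symm ▸ isUnit_one : IsUnit (u * s + v * t)) with hu | hu
  · obtain ⟨w, hw⟩ := (isUnit_of_mul_isUnit_right hu).exists_left_inv
    refine Or.inl ⟨t * w, sub_eq_zero.1 ((mul_left_mem_nonZeroDivisors_eq_zero_iff ha).1 ?_)⟩
    linear_combination -ht + t * w * hs - t * d * hw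
  · obtain ⟨w, hw⟩ := (isUnit_of_mul_isUnit_right hu).exists_left_inv
    refine Or.inr ⟨s * w, sub_eq_zero.1 ((mul_left_mem_nonZeroDivisors_eq_zero_iff ha).1 ?_)⟩
    linear_combination -hs + s * w * ht - s * d * hw

theorem PrincNear.dvd_pow (h : PrincNear a) (ha : a ∈ nonZeroDivisors A) (x : A) (n : ℕ) :
    x ∣ a ^ n ∨ a ^ n ∣ x :=
  h.dvd_or_dvd ha (Ideal.subset_span (Set.mem_insert_of_mem _ rfl) : a ^ n ∈ Ideal.span {x, a ^ n})

variable (L : Type u) [CommRing L] [Algebra A L] [IsLocalization.Away a L]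

omit [IsLocalRing A] in
theorem injective_away (ha : a ∈ nonZeroDivisors A) : Function.Injective (algebraMap A L) :=
  IsLocalization.injective L (M := Submonoid.powers a) (Submonoid.powers_le.2 ha)

theorem PrincNear.isUnit_or_range (h : PrincNear a) (ha : a ∈ nonZeroDivisors A) (b : L) :
    IsUnit b ∨ ∃ c : A, algebraMap A L c = b := by
  obtain ⟨⟨x, ⟨_, n, rfl⟩⟩, hx⟩ := IsLocalization.surj (Submonoid.powers a) b
  have hu : IsUnit (algebraMap A L (a ^ n)) := IsLocalization.map_units L (⟨a ^ n, n, rfl⟩ : Submonoid.powers a)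
  rcases h.dvd_pow ha x n with ⟨y, hy⟩ | ⟨y, hy⟩
  · refine Or.inl ?_
    have h1 : IsUnit (algebraMap A L x) := by
      have h2 := hu
      rw [hy, map_mul] at h2
      exact isUnit_of_mul_isUnit_left h2
    rw [← hx] at h1
    exact isUnit_of_mul_isUnit_left h1
  · refine Or.inr ⟨y, hu.mul_left_cancel ?_⟩
    rw [← map_mul, ← hy, ← hx, mul_comm]

theorem PrincNear.isLocalRing_away (h : PrincNear a) (ha : a ∈ nonZeroDivisors A) : IsLocalRing L := by
  haveI : Nontrivial L := (injective_away L ha).nontrivial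
  refine IsLocalRing.of_isUnit_or_isUnit_one_sub_self fun b => ?_
  rcases h.isUnit_or_range L ha b with hb | ⟨c, rfl⟩
  · exact Or.inl hb
  · rcases IsLocalRing.isUnit_or_isUnit_one_sub_self c with hc | hc
    · exact Or.inl (hc.map _)
    · refine Or.inr ?_
      rw [← map_one (algebraMap A L), ← map_sub]
      exact hc.map _

variable [IsLocalRing L]

omit [IsLocalRing A] in
theorem exists_mul_eq_pow {x : A} (hx : x ∉ (IsLocalRing.maximalIdeal L).comap (algebraMap A L))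
    (ha : a ∈ nonZeroDivisors A) : ∃ (n : ℕ) (y : A), y * x = a ^ n := by
  have hu : IsUnit (algebraMap A L x) := by
    by_contra hu
    exact hx ((IsLocalRing.mem_maximalIdeal _).2 hu)
  obtain ⟨w, hw⟩ := hu.exists_left_inv
  obtain ⟨⟨y, ⟨_, n, rfl⟩⟩, hy⟩ := IsLocalization.surj (Submonoid.powers a) w
  refine ⟨n, y, injective_away L ha ?_⟩
  rw [map_mul, ← hy, mul_right_comm, hw, one_mul]

theorem PrincNear.valuationRing (h : PrincNear a) (ha : a ∈ nonZeroDivisors A) (𝔭 : Ideal A) [𝔭.IsPrime]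
    (h𝔭 : 𝔭 = (IsLocalRing.maximalIdeal L).comap (algebraMap A L)) : ValuationRing (A ⧸ 𝔭) := by
  rw [ValuationRing.iff_dvd_total]
  refine ⟨fun x y => ?_⟩
  obtain ⟨x, rfl⟩ := Ideal.Quotient.mk_surjective x
  obtain ⟨y, rfl⟩ := Ideal.Quotient.mk_surjective y
  by_cases hx : x ∈ 𝔭
  · exact Or.inr (by rw [Ideal.Quotient.eq_zero_iff_mem.2 hx]; exact dvd_zero _)
  · obtain ⟨n, z, hz⟩ := exists_mul_eq_pow L (h𝔭 ▸ hx) ha
    rcases h.dvd_or_dvd ha (Ideal.mem_span_pair.2 ⟨z, 0, by rw [hz, zero_mul, add_zero]⟩ :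
      a ^ n ∈ Ideal.span {x, y}) with hd | hd
    · exact Or.inl (map_dvd _ hd)
    · exact Or.inr (map_dvd _ hd)

theorem PrincNear.bijOn (h : PrincNear a) (ha : a ∈ nonZeroDivisors A) (𝔭 : Ideal A) [𝔭.IsPrime]
    (h𝔭 : 𝔭 = (IsLocalRing.maximalIdeal L).comap (algebraMap A L)) :
    Set.BijOn (algebraMap A (Localization.AtPrime 𝔭)) (𝔭 : Set A)
      (IsLocalRing.maximalIdeal (Localization.AtPrime 𝔭) : Set (Localization.AtPrime 𝔭)) := by
  refine ⟨fun x hx => ?_, fun x _ y _ hxy => ?_, fun b hb => ?_⟩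
  · exact (IsLocalization.AtPrime.to_map_mem_maximal_iff (Localization.AtPrime 𝔭) 𝔭 x).2 hx
  · obtain ⟨⟨s, hs⟩, hs'⟩ := (IsLocalization.eq_iff_exists 𝔭.primeCompl (Localization.AtPrime 𝔭)).1 hxy
    obtain ⟨n, z, hz⟩ := exists_mul_eq_pow L (fun hh => hs (h𝔭.ge hh)) ha
    refine sub_eq_zero.1 ((mul_left_mem_nonZeroDivisors_eq_zero_iff (pow_mem ha n)).1 ?_)
    have hs'' : s * x = s * y := hs'
    linear_combination z * hs'' - (x - y) * hz
  · obtain ⟨⟨y, ⟨s, hs⟩⟩, hys⟩ := IsLocalization.surj 𝔭.primeCompl b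
    have hy : y ∈ 𝔭 := by
      refine (IsLocalization.AtPrime.to_map_mem_maximal_iff (Localization.AtPrime 𝔭) 𝔭 y).1 ?_
      rw [← hys]
      exact Ideal.mul_mem_right _ _ hb
    obtain ⟨n, z, hz⟩ := exists_mul_eq_pow L (fun hh => hs (h𝔭.ge hh)) ha
    rcases h.dvd_pow ha y n with ⟨w, hw⟩ | ⟨w, hw⟩
    · exfalso
      have hu : IsUnit (algebraMap A L (a ^ n)) := IsLocalization.map_units L (⟨a ^ n, n, rfl⟩ : Submonoid.powers a)
      rw [hw, map_mul] at hu
      exact (IsLocalRing.mem_maximalIdeal _).1 (Ideal.mem_comap.1 (h𝔭.le hy)) (isUnit_of_mul_isUnit_left hu)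
    · refine ⟨z * w, ?_, ?_⟩
      · have h1 : s * (z * w) ∈ 𝔭 := by
          rw [← mul_assoc, mul_comm s z, hz, ← hw]; exact hy
        exact (Ideal.IsPrime.mem_or_mem inferInstance h1).resolve_left hs
      · refine (IsLocalization.map_units (Localization.AtPrime 𝔭) (⟨s, hs⟩ : 𝔭.primeCompl)).mul_right_cancel ?_
        rw [hys, ← map_mul]
        congr 1
        rw [mul_right_comm, hz, ← hw]

/-- An element congruent to one of `A` modulo the maximal ideal comes from `A`. -/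
theorem exists_of_sub_mem (ha : a ∈ nonZeroDivisors A) (𝔭 : Ideal A) [𝔭.IsPrime]
    (h𝔭 : 𝔭 = (IsLocalRing.maximalIdeal L).comap (algebraMap A L))
    (hbij : Set.BijOn (algebraMap A (Localization.AtPrime 𝔭)) (𝔭 : Set A)
      (IsLocalRing.maximalIdeal (Localization.AtPrime 𝔭) : Set (Localization.AtPrime 𝔭)))
    {b : L} {c : A} (hb : b - algebraMap A L c ∈ IsLocalRing.maximalIdeal L) :
    ∃ w : A, algebraMap A L w = b := by
  obtain ⟨⟨x, ⟨_, n, rfl⟩⟩, hx⟩ := IsLocalization.surj (Submonoid.powers a) (b - algebraMap A L c)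
  have hu : IsUnit (algebraMap A L (a ^ n)) := IsLocalization.map_units L (⟨a ^ n, n, rfl⟩ : Submonoid.powers a)
  have hx𝔭 : x ∈ 𝔭 := by
    rw [h𝔭, Ideal.mem_comap, ← hx]
    exact Ideal.mul_mem_right _ _ hb
  have han : a ^ n ∉ 𝔭 := fun hh => (IsLocalRing.mem_maximalIdeal _).1 (Ideal.mem_comap.1 (h𝔭.le hh)) hu
  have hm : IsLocalization.mk' (Localization.AtPrime 𝔭) x (⟨a ^ n, han⟩ : 𝔭.primeCompl) ∈
      IsLocalRing.maximalIdeal (Localization.AtPrime 𝔭) :=
    (IsLocalization.AtPrime.mk'_mem_maximal_iff (Localization.AtPrime 𝔭) 𝔭 x ⟨a ^ n, han⟩).2 hx𝔭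
  obtain ⟨w, -, hw⟩ := hbij.2.2 hm
  rw [IsLocalization.eq_mk'_iff_mul_eq, ← map_mul] at hw
  obtain ⟨⟨s, hs⟩, hs'⟩ := (IsLocalization.eq_iff_exists 𝔭.primeCompl (Localization.AtPrime 𝔭)).1 hw
  have hsu : IsUnit (algebraMap A L s) := by
    by_contra hh
    exact hs (h𝔭 ▸ (IsLocalRing.mem_maximalIdeal _).2 hh)
  have h1 : algebraMap A L (w * a ^ n) = algebraMap A L x := by
    refine hsu.mul_left_cancel ?_
    rw [← map_mul, ← map_mul]
    exact congrArg _ hs'
  refine ⟨w + c, ?_⟩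
  rw [map_add, ← eq_sub_iff_add_eq]
  refine hu.mul_right_cancel ?_
  rw [← map_mul, h1, hx]

include a in
/-- The residue field of the localisation is the fraction field of the quotient. -/
theorem isFractionRing_residueField (𝔭 : Ideal A) [𝔭.IsPrime]
    (h𝔭 : 𝔭 = (IsLocalRing.maximalIdeal L).comap (algebraMap A L))
    [Algebra (A ⧸ 𝔭) (IsLocalRing.ResidueField L)]
    (hmk : ∀ x, algebraMap (A ⧸ 𝔭) (IsLocalRing.ResidueField L) (Ideal.Quotient.mk 𝔭 x) =
      IsLocalRing.residue L (algebraMap A L x)) :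
    IsFractionRing (A ⧸ 𝔭) (IsLocalRing.ResidueField L) := by
  haveI : FaithfulSMul (A ⧸ 𝔭) (IsLocalRing.ResidueField L) := by
    refine (faithfulSMul_iff_algebraMap_injective _ _).2 ((injective_iff_map_eq_zero _).2 fun z hz => ?_)
    obtain ⟨x, rfl⟩ := Ideal.Quotient.mk_surjective z
    rw [hmk, IsLocalRing.residue_eq_zero_iff] at hz
    exact Ideal.Quotient.eq_zero_iff_mem.2 (h𝔭 ▸ hz)
  refine IsFractionRing.of_field _ _ fun z => ?_
  obtain ⟨b, rfl⟩ := IsLocalRing.residue_surjective z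
  obtain ⟨⟨x, ⟨_, n, rfl⟩⟩, hx⟩ := IsLocalization.surj (Submonoid.powers a) b
  refine ⟨Ideal.Quotient.mk 𝔭 x, Ideal.Quotient.mk 𝔭 (a ^ n), ?_⟩
  have hu : IsUnit (IsLocalRing.residue L (algebraMap A L (a ^ n))) :=
    (IsLocalization.map_units L (⟨a ^ n, n, rfl⟩ : Submonoid.powers a)).map _
  rw [hmk, hmk, eq_div_iff hu.ne_zero, ← map_mul, hx]

end GrothLib.ModVal8
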