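import Groth.Agent.Lib.ValPoint.Basic

/-!
# Valuation rings centred at a point
-/

set_option autoImplicit false

universe u

open CategoryTheory AlgebraicGeometry Scheme IsLocalRing

namespace GrothLib.ValPoint

variable {X : Scheme.{u}}

/-- A valuation ring valued point detecting a nonzerodivisor which is not a unit at `x`. -/
lemma exists_valuation_centred (U : X.affineOpens) (x : X) (hx : x ∈ U.1) {a : Γ(X, U.1)}
    (ha : a ∈ nonZeroDivisors Γ(X, U.1)) (hau : ¬ IsUnit ((X.presheaf.germ U.1 x hx).hom a)) :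
    ∃ (R : Type u) (_ : CommRing R) (_ : IsDomain R) (_ : ValuationRing R) (φ : Γ(X, U.1) ⟶ .of R),
      φ.hom a ≠ 0 ∧ (∀ c, IsUnit ((X.presheaf.germ U.1 x hx).hom c) ↔ IsUnit (φ.hom c)) ∧
      ∀ P : Ideal R, P.IsPrime → (φ.hom a ∈ P ↔ P ≠ ⊥) := by
  let O := X.presheaf.stalk x
  let g := (X.presheaf.germ U.1 x hx).hom
  let _ := TopCat.Presheaf.algebra_section_stalk X.presheaf (⟨x, hx⟩ : U.1)
  have := U.2.isLocalization_stalk ⟨x, hx⟩
  have hga : g a ∈ nonZeroDivisors O :=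
    IsLocalization.nonZeroDivisors_le_comap (U.2.primeIdealOf ⟨x, hx⟩).asIdeal.primeCompl O ha
  obtain ⟨q, hq, hqa⟩ : ∃ q : Ideal O, q.IsPrime ∧ g a ∉ q := by
    by_contra! h
    obtain ⟨n, hn⟩ : g a ∈ nilradical O := by
      rw [nilradical_eq_sInf]
      exact Ideal.mem_sInf.mpr fun {q} hq ↦ h q hq
    exact nonZeroDivisors.ne_zero (pow_mem hga n) hn
  let K := FractionRing (O ⧸ q)
  obtain ⟨A, hA, hl⟩ := exists_factor_valuationRing (R := O) (K := K)
    ((algebraMap (O ⧸ q) K).comp (Ideal.Quotient.mk q))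
  let χ : O →+* A := (((algebraMap (O ⧸ q) K).comp (Ideal.Quotient.mk q))).codRestrict A.toSubring hA
  have : IsLocalHom χ := hl
  have hr0 : χ (g a) ≠ 0 := fun h ↦ hqa (Ideal.Quotient.eq_zero_iff_mem.mp
    ((IsFractionRing.injective (O ⧸ q) K).eq_iff' (map_zero _) |>.mp (congrArg Subtype.val h)))
  have hru : ¬ IsUnit (χ (g a)) := fun h ↦ hau (isUnit_of_map_unit χ _ h)
  set r := χ (g a)
  let P₀ : Ideal A := ⨅ n : ℕ, Ideal.span {r ^ n}
  have hrP : r ∉ P₀ := fun h ↦ by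
    obtain ⟨c, hc⟩ := Ideal.mem_span_singleton.mp ((Ideal.mem_iInf.mp h) 2)
    refine hru (isUnit_iff_exists_inv.mpr ⟨c, mul_left_cancel₀ hr0 ?_⟩)
    rw [mul_one, ← mul_assoc, ← sq, ← hc]
  have hP₀ : P₀.IsPrime := by
    refine ⟨fun h ↦ hrP (h ▸ trivial), fun {s t} hst ↦ ?_⟩
    by_contra! hcon
    simp only [P₀, Ideal.mem_iInf, not_forall] at hcon
    obtain ⟨⟨m, hm⟩, n, hn⟩ := hcon
    have hs : s ∣ r ^ m := (ValuationRing.dvd_total s (r ^ m)).resolve_right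
      fun h ↦ hm (Ideal.mem_span_singleton.mpr h)
    have ht : t ∣ r ^ n := (ValuationRing.dvd_total t (r ^ n)).resolve_right
      fun h ↦ hn (Ideal.mem_span_singleton.mpr h)
    have h1 : r ^ (m + n + 1) ∣ s * t := Ideal.mem_span_singleton.mp ((Ideal.mem_iInf.mp hst) _)
    obtain ⟨c, hc⟩ := h1.trans (mul_dvd_mul hs ht)
    refine hru (isUnit_iff_exists_inv.mpr ⟨c, mul_left_cancel₀ (pow_ne_zero (m + n) hr0) ?_⟩)
    rw [← mul_assoc, ← pow_succ, mul_one, ← hc, pow_add]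
  have : PreValuationRing (A ⧸ P₀) :=
    Function.Surjective.preValuationRing (Ideal.Quotient.mk P₀).toMonoidHom.toMulHom
      Ideal.Quotient.mk_surjective
  let φ : Γ(X, U.1) ⟶ .of (A ⧸ P₀) := CommRingCat.ofHom ((Ideal.Quotient.mk P₀).comp (χ.comp g))
  refine ⟨A ⧸ P₀, inferInstance, inferInstance, {}, φ, ?_, fun c ↦ ⟨fun hc ↦ (hc.map χ).map (Ideal.Quotient.mk P₀), fun hu ↦ ?_⟩, fun P hP ↦ ?_⟩
  · exact fun h ↦ hrP (Ideal.Quotient.eq_zero_iff_mem.mp h)
  · have h1 : IsUnit (χ (g c)) :=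
      (IsLocalHom.of_surjective (Ideal.Quotient.mk P₀) Ideal.Quotient.mk_surjective).map_nonunit _ hu
    exact isUnit_of_map_unit χ _ h1
  · refine ⟨fun h hb ↦ hrP (Ideal.Quotient.eq_zero_iff_mem.mp
      ((Submodule.mem_bot (R := A ⧸ P₀)).mp (hb ▸ h))), fun hne ↦ ?_⟩
    by_contra h
    refine hne (eq_bot_iff.mpr fun s hs ↦ ?_)
    obtain ⟨s, rfl⟩ := Ideal.Quotient.mk_surjective s
    rw [Submodule.mem_bot, Ideal.Quotient.eq_zero_iff_mem, Ideal.mem_iInf]
    intro n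
    rcases ValuationRing.dvd_total (r ^ n) s with h1 | ⟨c, hc⟩
    · exact Ideal.mem_span_singleton.mpr h1
    · refine absurd (hP.mem_of_pow_mem n ?_) h
      show (φ.hom a) ^ n ∈ P
      show (Ideal.Quotient.mk P₀ r) ^ n ∈ P
      rw [← map_pow, hc, map_mul]
      exact P.mul_mem_right _ hs

end GrothLib.ValPoint
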