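import Mathlib.RingTheory.Localization.Away.Basic
import Mathlib.RingTheory.Localization.Integer
import Mathlib.RingTheory.Flat.FaithfullyFlat.Algebra
import Mathlib.RingTheory.FinitePresentation
import Mathlib.RingTheory.OrzechProperty
import Mathlib.RingTheory.Noetherian.Orzech
import Mathlib.LinearAlgebra.Basis.Submodule
import Mathlib.LinearAlgebra.Dimension.StrongRankCondition

/-!
# Finite free algebras over a localisation come from finite free algebras
-/

set_option autoImplicit false
set_option linter.style.haveILetI false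

universe u

namespace GrothLib.ModVal8

/-- Every finite free nonzero algebra has a retraction. -/
def HasFreeRetractions (A : Type u) [CommRing A] : Prop :=
  ∀ (B : Type u) [CommRing B] [Algebra A B], Module.Free A B → Module.Finite A B → Nontrivial B →
    Nonempty (B →ₐ[A] A)

variable {L : Type u} [CommRing L] [IsLocalRing L] {B : Type u} [CommRing B] [Algebra L B] [Module.Free L B]
  [Module.Finite L B] [Nontrivial B]

/-- A finite free nonzero algebra over a local ring has a basis containing `1`. -/
theorem exists_basis_one : ∃ (ι : Type u) (_ : Fintype ι) (b : Module.Basis ι L B) (i₀ : ι), b i₀ = 1 := by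
  classical
  let ι := Module.Free.ChooseBasisIndex L B
  let e : Module.Basis ι L B := Module.Free.chooseBasis L B
  obtain ⟨i₀, hi₀⟩ : ∃ i, IsUnit (e.repr 1 i) := by
    by_contra! hh
    obtain ⟨j⟩ : Nonempty ι := e.index_nonempty
    have h1 : e.repr (e j * 1) j ∈ IsLocalRing.maximalIdeal L := by
      have h2 : e j * 1 = ∑ i, e.repr 1 i • (e j * e i) := by
        conv_lhs => rw [← e.sum_repr 1, Finset.mul_sum]
        simp only [mul_smul_comm]
      rw [h2, map_sum, Finsupp.finsetSum_apply]
      refine Submodule.sum_mem _ fun i _ => ?_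
      rw [map_smul, Finsupp.smul_apply, smul_eq_mul]
      exact Ideal.mul_mem_right _ _ ((IsLocalRing.mem_maximalIdeal _).2 (hh i))
    rw [mul_one, e.repr_self, Finsupp.single_eq_same] at h1
    exact (IsLocalRing.maximalIdeal.isMaximal L).ne_top ((Ideal.eq_top_iff_one _).2 h1)
  let T : B →ₗ[L] B := e.constr L (Function.update e i₀ 1)
  have hT : ∀ i, T (e i) = Function.update e i₀ 1 i := fun i => e.constr_basis L _ i
  have hsurj : Function.Surjective T := by
    rw [← LinearMap.range_eq_top, ← top_le_iff, ← e.span_eq, Submodule.span_le]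
    rintro _ ⟨i, rfl⟩
    have hne : ∀ j, j ≠ i₀ → e j ∈ LinearMap.range T := fun j hj =>
      ⟨e j, by rw [hT, Function.update_of_ne hj]⟩
    rcases eq_or_ne i i₀ with rfl | hi
    · obtain ⟨u, hu⟩ := hi₀.exists_left_inv
      have h2 : e.repr 1 i • e i = (1 : B) - ∑ j ∈ Finset.univ.erase i, e.repr 1 j • e j := by
        rw [eq_sub_iff_add_eq, Finset.add_sum_erase _ (fun j => e.repr 1 j • e j) (Finset.mem_univ i), e.sum_repr]
      have h3 : e i = u • (e.repr 1 i • e i) := by rw [smul_smul, hu, one_smul]
      rw [SetLike.mem_coe, h3, h2]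
      refine Submodule.smul_mem _ _ (Submodule.sub_mem _ ⟨e i, by rw [hT, Function.update_self]⟩ ?_)
      exact Submodule.sum_mem _ fun j hj => Submodule.smul_mem _ _ (hne j (Finset.ne_of_mem_erase hj))
    · exact hne i hi
  have hbij : Function.Bijective T := ⟨OrzechProperty.injective_of_surjective_endomorphism T hsurj, hsurj⟩
  refine ⟨ι, inferInstance, e.map (LinearEquiv.ofBijective T hbij), i₀, ?_⟩
  rw [Module.Basis.map_apply, LinearEquiv.ofBijective_apply, hT, Function.update_self]

variable {A : Type u} [CommRing A] [Algebra A L]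

/-- **Retractions descend to the localisation.** -/
theorem hasFreeRetractions_away (hA : HasFreeRetractions A) (a : A) [IsLocalization.Away a L]
    (ha : a ∈ nonZeroDivisors A) : HasFreeRetractions L := by
  classical
  intro B _ _ hfree hfin hnt
  obtain ⟨ι, _, b, i₀, hb⟩ := exists_basis_one (L := L) (B := B)
  obtain ⟨⟨_, N, rfl⟩, hN⟩ := IsLocalization.exist_integer_multiples (Submonoid.powers a)
    (Finset.univ : Finset (ι × ι × ι)) fun x => b.repr (b x.1 * b x.2.1) x.2.2
  have hu : IsUnit (algebraMap A L (a ^ N)) :=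
    IsLocalization.map_units L (⟨a ^ N, N, rfl⟩ : Submonoid.powers a)
  let w : ι → Lˣ := fun i => if i = i₀ then 1 else hu.unit
  have hw : ∀ i, (w i : L) = if i = i₀ then 1 else algebraMap A L (a ^ N) := fun i => by
    by_cases h : i = i₀ <;> simp [w, h, IsUnit.unit_spec]
  let v : Module.Basis ι L B := b.unitsSMul w
  have hv : ∀ i, v i = (w i : L) • b i := fun i => b.unitsSMul_apply i
  have hv0 : v i₀ = 1 := by rw [hv, hw, if_pos rfl, one_smul, hb]
  letI : Algebra A B := ((algebraMap L B).comp (algebraMap A L)).toAlgebra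
  haveI : IsScalarTower A L B := IsScalarTower.of_algebraMap_eq' rfl
  let M : Submodule A B := Submodule.span A (Set.range v)
  have hscal : ∀ (c : A) (x : B), x ∈ M → algebraMap A L c • x ∈ M := fun c x hx => by
    rw [algebraMap_smul]; exact M.smul_mem c hx
  have hone : (1 : B) ∈ M := hv0 ▸ Submodule.subset_span ⟨i₀, rfl⟩
  have hvv : ∀ i j, v i * v j ∈ M := by
    intro i j
    by_cases hi : i = i₀
    · subst hi; rw [hv0, one_mul]; exact Submodule.subset_span ⟨j, rfl⟩
    by_cases hj : j = i₀
    · subst hj; rw [hv0, mul_one]; exact Submodule.subset_span ⟨i, rfl⟩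
    rw [hv i, hv j, hw, hw, if_neg hi, if_neg hj, smul_mul_smul_comm, ← b.sum_repr (b i * b j), Finset.smul_sum]
    refine Submodule.sum_mem _ fun k _ => ?_
    obtain ⟨c, hc⟩ := hN (i, j, k) (Finset.mem_univ _)
    have hc' : algebraMap A L c = algebraMap A L (a ^ N) * b.repr (b i * b j) k := by
      rw [hc, Algebra.smul_def]
    rw [smul_smul, mul_assoc, ← hc']
    by_cases hk : k = i₀
    · subst hk
      rw [hb, ← map_mul]
      exact hscal _ _ hone
    · have h := hv k
      rw [hw, if_neg hk] at h
      rw [mul_comm, mul_smul, ← h]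
      exact hscal _ _ (Submodule.subset_span ⟨k, rfl⟩)
  have hmul : ∀ x y, x ∈ M → y ∈ M → x * y ∈ M := by
    intro x y hx hy
    induction hx using Submodule.span_induction with
    | zero => simp
    | add _ _ _ _ h h' => rw [add_mul]; exact M.add_mem h h'
    | smul c _ _ h => rw [smul_mul_assoc]; exact M.smul_mem c h
    | mem x hx =>
      obtain ⟨i, rfl⟩ := hx
      induction hy using Submodule.span_induction with
      | zero => simp
      | add _ _ _ _ h h' => rw [mul_add]; exact M.add_mem h h'
      | smul c _ _ h => rw [mul_smul_comm]; exact M.smul_mem c h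
      | mem y hy => obtain ⟨j, rfl⟩ := hy; exact hvv i j
  let B₀ : Subalgebra A B := M.toSubalgebra hone hmul
  haveI : FaithfulSMul A L := (faithfulSMul_iff_algebraMap_injective _ _).2
    (IsLocalization.injective L (M := Submonoid.powers a) (Submonoid.powers_le.2 ha))
  have hli : LinearIndependent A v := v.linearIndependent.restrict_scalars' A
  let v₀ : Module.Basis ι A B₀ :=
    (Module.Basis.span hli).map (LinearEquiv.ofEq M (Subalgebra.toSubmodule B₀) rfl)
  have hv₀ : ∀ i, (v₀ i : B) = v i := fun i => by
    simp [v₀, Module.Basis.map_apply, Module.Basis.span_apply]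
    rfl
  haveI : Nontrivial B₀ := ⟨0, 1, fun h => zero_ne_one (α := B) (congrArg Subtype.val h)⟩
  obtain ⟨ψ⟩ := hA B₀ (Module.Free.of_basis v₀) (Module.Finite.of_basis v₀) inferInstance
  let Ψ : B →ₗ[L] L := v.constr L fun i => algebraMap A L (ψ (v₀ i))
  have hΨ : ∀ x : B₀, Ψ (x : B) = algebraMap A L (ψ x) := by
    have : (Ψ.restrictScalars A).comp (Subalgebra.val B₀).toLinearMap =
        (Algebra.linearMap A L).comp ψ.toLinearMap := v₀.ext fun i => by
      simp only [LinearMap.comp_apply, AlgHom.toLinearMap_apply, Subalgebra.val_apply,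
        LinearMap.coe_restrictScalars, Algebra.linearMap_apply]
      rw [hv₀]
      exact v.constr_basis L _ i
    exact fun x => LinearMap.congr_fun this x
  have h1 : Ψ 1 = 1 := by
    have := hΨ 1
    rwa [map_one, map_one] at this
  have h2 : ∀ x y : B, Ψ (x * y) = Ψ x * Ψ y := by
    have : (LinearMap.mul L B).compr₂ Ψ = (LinearMap.mul L L).compl₁₂ Ψ Ψ := v.ext fun i => v.ext fun j => by
      show Ψ (v i * v j) = Ψ (v i) * Ψ (v j)
      rw [← hv₀ i, ← hv₀ j, hΨ, hΨ, ← map_mul, ← map_mul, ← hΨ]
      rfl
    exact fun x y => LinearMap.congr_fun₂ this x y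
  exact ⟨AlgHom.ofLinearMap Ψ h1 h2⟩

end GrothLib.ModVal8
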