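import Groth.Agent.Lib.ModVal8.Hens
import Groth.Agent.Lib.ModVal8.Retract
import Groth.Agent.Lib.EtLocal.HenselPart
import Groth.Agent.Lib.FppfTower8.Main
import Groth.Agent.S19328

/-!
# Pairs local for fppf coverings
-/

set_option autoImplicit false
set_option backward.isDefEq.respectTransparency false
set_option linter.style.haveILetI false

universe u

open CategoryTheory CategoryTheory.Limits AlgebraicGeometry

namespace GrothLib.ModVal8

open GrothLib.RLpsi8.ZarFinLocal

noncomputable section

/-- The class of fppf morphisms. -/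
abbrev fppf : MorphismProperty Scheme.{u} := @Flat ⊓ @LocallyOfFinitePresentation ⊓ @QuasiCompact ⊓ @QuasiSeparated

theorem isLocalFor_zariski {P : Scheme.{u}} (hP : IsLocalFor fppf P) :
    IsLocalFor (@IsOpenImmersion ⊓ @QuasiCompact) P := fun X R hR g =>
  hP X R ⟨hR.1, fun {Y} f hf => by
    haveI : IsOpenImmersion f := (hR.2 hf).1
    haveI : QuasiCompact f := (hR.2 hf).2
    exact ⟨⟨⟨inferInstance, inferInstance⟩, inferInstance⟩, inferInstance⟩⟩ g

theorem isLocalFor_etale {P : Scheme.{u}} (hP : IsLocalFor fppf P) :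
    IsLocalFor (@Etale ⊓ @QuasiCompact ⊓ @QuasiSeparated) P := fun X R hR g =>
  hP X R ⟨hR.1, fun {Y} f hf => by
    haveI : Etale f := (hR.2 hf).1.1
    haveI : QuasiCompact f := (hR.2 hf).1.2
    haveI : QuasiSeparated f := (hR.2 hf).2
    exact ⟨⟨⟨inferInstance, inferInstance⟩, inferInstance⟩, inferInstance⟩⟩ g

theorem IsLocalFor.of_iso {Q : MorphismProperty Scheme.{u}} {P P' : Scheme.{u}} (e : P ≅ P')
    (h : IsLocalFor Q P) : IsLocalFor Q P' := fun X R hR g => by
  obtain ⟨Y, w, t, hw, ht⟩ := h X R hR (e.hom ≫ g)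
  exact ⟨Y, w, e.inv ≫ t, hw, by rw [Category.assoc, ht, Iso.inv_hom_id_assoc]⟩

/-- An fppf-local ring has retractions of finite free algebras. -/
theorem hasFreeRetractions_of_local {A : Type u} [CommRing A]
    (hA : IsLocalFor fppf (Spec (CommRingCat.of A))) : HasFreeRetractions A := by
  intro B _ _ hfree hfin hnt
  haveI := hfree
  haveI := hfin
  haveI : Module.FaithfullyFlat A B := inferInstance
  have hflat : Module.Flat A B := inferInstance
  haveI : Algebra.FiniteType A B := inferInstance
  haveI : Module.FinitePresentation A B := Module.finitePresentation_of_projective A B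
  have hfp : Algebra.FinitePresentation A B := Algebra.FinitePresentation.of_finitePresentation A B
  let u := Spec.map (CommRingCat.ofHom (algebraMap A B))
  haveI : Flat u := HasRingHomProperty.Spec_iff.2 (RingHom.flat_algebraMap_iff.2 hflat)
  haveI : LocallyOfFinitePresentation u :=
    HasRingHomProperty.Spec_iff.2 (RingHom.finitePresentation_algebraMap.2 hfp)
  obtain ⟨-, t, ht⟩ := hA.ofArrows (X := Spec (CommRingCat.of A)) (ι := PUnit.{u+1}) (fun _ => u)
    (fun x => ⟨⟨⟩, PrimeSpectrum.comap_surjective_of_faithfullyFlat x⟩)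
    (fun _ => ⟨⟨⟨inferInstance, inferInstance⟩, inferInstance⟩, inferInstance⟩) (𝟙 _)
  obtain ⟨ψ, rfl⟩ : ∃ ψ, Spec.map ψ = t := Spec.map_surjective t
  rw [← Spec.map_comp, ← Spec.map_id] at ht
  exact ⟨{ toRingHom := ψ.hom, commutes' := fun x => congrArg (fun q => q.hom x) (Spec.map_injective ht) }⟩

/-- A henselian local ring with retractions of finite free algebras is fppf-local. -/
theorem local_of_retractions {L : Type u} [CommRing L] [HenselianLocalRing L] (hL : HasFreeRetractions L) :
    IsLocalFor fppf (Spec (CommRingCat.of L)) := by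
  intro X R hR g
  obtain ⟨Y, w, hw, y, hy⟩ := Scheme.JointlySurjective.exists_eq R hR (g (IsLocalRing.closedPoint L))
  haveI : Flat w := (hR.2 hw).1.1.1
  haveI : LocallyOfFinitePresentation w := (hR.2 hw).1.1.2
  obtain ⟨z, hz, -⟩ := Scheme.Pullback.exists_preimage_pullback (f := g) (g := w) (IsLocalRing.closedPoint L) y hy.symm
  obtain ⟨S, Q, j, s, q, h, hj, hq, hqs, hc⟩ := GrothLib.FppfTower8.exists_chart_of_mem_range (pullback.fst g w) z
  rw [hz] at hj
  obtain ⟨σ, hσ, -⟩ := GrothLib.EtLocal.exists_section_of_etaleNbhd j s hj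
  haveI := hq.1
  haveI := hq.2.1
  haveI := hq.2.2
  haveI := hqs
  let r : pullback q σ ⟶ Spec (CommRingCat.of L) := pullback.snd q σ
  haveI : IsFinite r := inferInstance
  haveI : IsAffine (pullback q σ) := isAffine_of_isAffineHom r
  let B := Γ(pullback q σ, ⊤)
  let φ : CommRingCat.of L ⟶ B := Spec.preimage ((pullback q σ).isoSpec.inv ≫ r)
  have hφ : Spec.map φ = (pullback q σ).isoSpec.inv ≫ r := Spec.map_preimage _
  have h1 : φ.hom.Finite := by rw [← IsFinite.SpecMap_iff, hφ]; infer_instance
  have h2 : φ.hom.Flat := (HasRingHomProperty.Spec_iff (P := @Flat)).1 (by rw [hφ]; infer_instance)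
  have h3 : φ.hom.FinitePresentation :=
    (HasRingHomProperty.Spec_iff (P := @LocallyOfFinitePresentation)).1 (by rw [hφ]; infer_instance)
  haveI : Nontrivial B := by
    obtain ⟨p, -⟩ := r.surjective (IsLocalRing.closedPoint L)
    exact ((pullback q σ).presheaf.germ ⊤ p trivial).hom.domain_nontrivial
  letI : Algebra L B := φ.hom.toAlgebra
  haveI : Module.Finite L B := h1
  haveI : Module.Flat L B := h2
  haveI : Algebra.FinitePresentation L B := h3
  haveI : Module.FinitePresentation L B := Module.FinitePresentation.of_finite_of_finitePresentation L B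
  obtain ⟨ψ⟩ := hL B (Module.free_of_flat_of_isLocalRing) inferInstance inferInstance
  have hs : φ ≫ CommRingCat.ofHom ψ.toRingHom = 𝟙 _ := CommRingCat.hom_ext (RingHom.ext fun x => ψ.commutes x)
  let τ : Spec (CommRingCat.of L) ⟶ pullback q σ :=
    Spec.map (CommRingCat.ofHom ψ.toRingHom) ≫ (pullback q σ).isoSpec.inv
  have hτ : τ ≫ r = 𝟙 _ := by
    show (_ ≫ _) ≫ r = _
    rw [Category.assoc, ← hφ, ← Spec.map_comp, hs, Spec.map_id]
  refine ⟨Y, w, τ ≫ pullback.fst q σ ≫ h ≫ pullback.snd g w, hw, ?_⟩
  have h5 : (τ ≫ pullback.fst q σ ≫ h) ≫ pullback.fst g w = 𝟙 _ := by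
    simp only [Category.assoc]
    rw [hc, pullback.condition_assoc, hσ, Category.comp_id]
    exact hτ
  calc (τ ≫ pullback.fst q σ ≫ h ≫ pullback.snd g w) ≫ w
      = (τ ≫ pullback.fst q σ ≫ h) ≫ (pullback.fst g w ≫ g) := by rw [pullback.condition]; simp
    _ = g := by rw [← Category.assoc, h5, Category.id_comp]

/-- The fraction fields of the prime quotients of an fppf-local ring are algebraically closed. -/
theorem isAlgClosed_fractionRing_of_local {A : Type u} [CommRing A]
    (hA : IsLocalFor fppf (Spec (CommRingCat.of A))) (p : Ideal A) [p.IsPrime] :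
    IsAlgClosed (FractionRing (A ⧸ p)) := by
  haveI := Groth.Agent.S19328.result A hA p
  exact IsAlgClosed.of_ringEquiv p.ResidueField _
    (FractionRing.algEquiv (A ⧸ p) p.ResidueField).symm.toRingEquiv

/-- The interior of a pair local for fppf coverings and blow-ups is fppf-local. -/
theorem fppfLocal_interior {P : ModPair.Pair.{u}} [IsAffine P.total] [IsLocalRing Γ(P.total, ⊤)]
    (hP : IsLocalFor fppf P.total) (hB : IsBlowupLocal P) :
    IsLocalFor fppf (ModPair.interior P.mod : Scheme.{u}) := by
  obtain ⟨a, ha, hI, hint⟩ := exists_modulus P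
  have hpr := princNear_of_local hB hI hint
  haveI := hpr.isLocalRing_away Γ(P.total, P.total.basicOpen a) ha
  haveI : HenselianLocalRing Γ(P.total, ⊤) := (strict_of_local (isLocalFor_etale hP)).choose
  haveI := henselian_away hpr ha Γ(P.total, P.total.basicOpen a)
  have hA : HasFreeRetractions Γ(P.total, ⊤) := hasFreeRetractions_of_local (IsLocalFor.of_iso P.total.isoSpec hP)
  have hL : IsLocalFor fppf (Spec Γ(P.total, P.total.basicOpen a)) :=
    local_of_retractions (hasFreeRetractions_away hA a ha)
  rw [hint]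
  exact IsLocalFor.of_iso ((isAffineOpen_top P.total).basicOpen a).isoSpec.symm hL

end

end GrothLib.ModVal8
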