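import Groth.Agent.Lib.ModVal8.Main
import Groth.Agent.Lib.Hensel.Sections
import Groth.Agent.Lib.ProEtS.GeomPoint
import Groth.Agent.S0675
import Groth.Agent.S14620

/-!
# Pairs local for étale coverings
-/

set_option autoImplicit false
set_option backward.isDefEq.respectTransparency false
set_option linter.style.haveILetI false

universe u

open CategoryTheory CategoryTheory.Limits AlgebraicGeometry Polynomial

namespace GrothLib.ModVal8

open GrothLib.RLpsi8.ZarFinLocal

noncomputable section

/-- Étale covers of the spectrum of a strictly henselian ring have sections. -/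
theorem exists_section_strict {A : Type u} [CommRing A] (hA : EtCoh.IsStrictlyHenselianLocalRing A)
    {W : Scheme.{u}} (f : W ⟶ Spec (CommRingCat.of A)) [Etale f] (w : W)
    (hw : haveI := hA.choose; f w = IsLocalRing.closedPoint A) : ∃ σ : Spec (CommRingCat.of A) ⟶ W, σ ≫ f = 𝟙 _ := by
  obtain ⟨hH, hsep⟩ := hA
  let κ := IsLocalRing.ResidueField A
  let res : Spec (CommRingCat.of κ) ⟶ Spec (CommRingCat.of A) := Spec.map (CommRingCat.ofHom (IsLocalRing.residue A))
  obtain ⟨z, -, -⟩ := Scheme.Pullback.exists_preimage_pullback (f := f) (g := res) w (IsLocalRing.closedPoint κ)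
    (hw.trans (IsLocalRing.comap_closedPoint (IsLocalRing.residue A)).symm)
  obtain ⟨s, hs⟩ := GrothLib.ProEtS.exists_section_of_isSepClosed (pullback.snd f res) z
  obtain ⟨σ, hσ, -⟩ := GrothLib.Hensel.exists_section_extending f (s ≫ pullback.fst f res) (by
    rw [Category.assoc, pullback.condition, ← Category.assoc, hs, Category.id_comp])
  exact ⟨σ, hσ⟩

/-- The spectrum of a strictly henselian ring is local for étale coverings. -/
theorem local_of_strict {P : Scheme.{u}} [IsAffine P] (hA : EtCoh.IsStrictlyHenselianLocalRing Γ(P, ⊤))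
    {Q : MorphismProperty Scheme.{u}} (hQ : ∀ {X Y : Scheme.{u}} (f : X ⟶ Y), Q f → Etale f) :
    IsLocalFor Q P := by
  intro X R hR g
  haveI := hA.choose
  let g' : Spec Γ(P, ⊤) ⟶ X := P.isoSpec.inv ≫ g
  obtain ⟨Y, w, hw, y, hy⟩ := Scheme.JointlySurjective.exists_eq R hR (g' (IsLocalRing.closedPoint Γ(P, ⊤)))
  haveI : Etale w := hQ w (hR.2 hw)
  obtain ⟨z, hz, -⟩ := Scheme.Pullback.exists_preimage_pullback (f := g') (g := w)
    (IsLocalRing.closedPoint Γ(P, ⊤)) y hy.symm
  obtain ⟨σ, hσ⟩ := exists_section_strict hA (pullback.fst g' w) z hz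
  refine ⟨Y, w, P.isoSpec.hom ≫ σ ≫ pullback.snd g' w, hw, ?_⟩
  rw [Category.assoc, Category.assoc, ← pullback.condition, ← Category.assoc σ, hσ, Category.id_comp]
  exact Iso.hom_inv_id_assoc _ _

/-- A local ring whose spectrum is local for étale coverings is strictly henselian. -/
theorem strict_of_local {P : Scheme.{u}} [IsAffine P] [IsLocalRing Γ(P, ⊤)]
    (hP : IsLocalFor (@Etale ⊓ @QuasiCompact ⊓ @QuasiSeparated) P) :
    EtCoh.IsStrictlyHenselianLocalRing Γ(P, ⊤) := by
  let A := Γ(P, ⊤)
  have h : ProEtW.HasEtaleRetractions A := by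
    intro B _ _ hff het
    let φ : A ⟶ CommRingCat.of B := CommRingCat.ofHom (algebraMap A B)
    haveI : Etale (Spec.map φ) :=
      HasRingHomProperty.Spec_iff.mpr (RingHom.etale_algebraMap.mpr het)
    obtain ⟨-, t, ht⟩ := hP.ofArrows (X := Spec A) (ι := PUnit.{u+1}) (fun _ => Spec.map φ)
      (fun x => ⟨⟨⟩, PrimeSpectrum.comap_surjective_of_faithfullyFlat x⟩)
      (fun _ => ⟨⟨inferInstance, (inferInstance : QuasiCompact (Spec.map φ))⟩, (inferInstance : QuasiSeparated (Spec.map φ))⟩)
      P.isoSpec.hom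
    have h2 : φ ≫ Spec.preimage (P.isoSpec.inv ≫ t) = 𝟙 A :=
      Spec.map_injective (by simp [ht]; rfl)
    exact ⟨{ toRingHom := (Spec.preimage (P.isoSpec.inv ≫ t)).hom,
             commutes' := fun x => congrArg (fun q => q.hom x) h2 }⟩
  have hs := Groth.Agent.S0675.result A h (IsLocalRing.maximalIdeal A)
  let e := IsLocalization.atUnits A (IsLocalRing.maximalIdeal A).primeCompl
    (S := Localization.AtPrime (IsLocalRing.maximalIdeal A)) (fun x hx => IsLocalRing.notMem_maximalIdeal.1 hx)
  haveI : IsLocalHom e.symm.toRingEquiv.toRingHom := ⟨fun x hx => by simpa using hx.map e⟩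
  exact Groth.Agent.S14620.result e.symm.toRingEquiv.toRingHom
    (RingHom.Finite.of_surjective _ e.symm.surjective) hs

/-- Quotients of strictly henselian rings are strictly henselian. -/
theorem strict_quotient {A : Type u} [CommRing A] (hA : EtCoh.IsStrictlyHenselianLocalRing A) (p : Ideal A)
    [p.IsPrime] : EtCoh.IsStrictlyHenselianLocalRing (A ⧸ p) := by
  haveI := hA.choose
  haveI : IsLocalRing (A ⧸ p) := IsLocalRing.of_surjective' _ Ideal.Quotient.mk_surjective
  haveI : IsLocalHom (Ideal.Quotient.mk p) := IsLocalHom.of_surjective _ Ideal.Quotient.mk_surjective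
  exact Groth.Agent.S14620.result (Ideal.Quotient.mk p)
    (RingHom.Finite.of_surjective _ Ideal.Quotient.mk_surjective) hA

/-- A monic polynomial with a small constant term and unit linear term has a root nearby. -/
theorem exists_root_small {A L : Type u} [CommRing A] [CommRing L] [HenselianLocalRing A] [IsLocalRing L]
    (f : A →+* L) (hm : ∀ b ∈ IsLocalRing.maximalIdeal L, ∃ c ∈ IsLocalRing.maximalIdeal A, f c = b)
    (g : L[X]) (hg0 : g.coeff 0 ∈ IsLocalRing.maximalIdeal L) (hg1 : IsUnit (g.coeff 1)) :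
    ∃ y ∈ IsLocalRing.maximalIdeal L, g.eval y = 0 := by
  classical
  obtain ⟨v, hv⟩ := hg1.exists_left_inv
  let d := max g.natDegree 1
  have hd : g.natDegree < d + 1 := by omega
  let t : L := g.coeff 0 * v
  have ht : t ∈ IsLocalRing.maximalIdeal L := Ideal.mul_mem_right _ _ hg0
  choose b hb hfb using fun i : ℕ => hm (g.coeff (i + 2) * v * t ^ (i + 1))
    (Ideal.mul_mem_left _ _ (Ideal.pow_mem_of_mem _ ht _ (Nat.succ_pos i)))
  let r : A[X] := ∑ i : Fin (d - 1), C (b i.1) * X ^ (d - (i.1 + 2))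
  let H : A[X] := X ^ d + (X ^ (d - 1) + r)
  have hr : r.degree < (d : WithBot ℕ) := by
    refine lt_of_le_of_lt (Polynomial.degree_sum_le _ _) ((Finset.sup_lt_iff (WithBot.bot_lt_coe d)).2 fun i _ => ?_)
    refine lt_of_le_of_lt (Polynomial.degree_C_mul_X_pow_le _ _) ?_
    exact WithBot.coe_lt_coe.2 (show d - (i.1 + 2) < d by omega)
  have hH : H.Monic := by
    refine Polynomial.monic_X_pow_add (lt_of_le_of_lt (Polynomial.degree_add_le _ _) (max_lt ?_ hr))
    refine lt_of_le_of_lt (Polynomial.degree_X_pow_le _) ?_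
    exact WithBot.coe_lt_coe.2 (show d - 1 < d by omega)
  have hrm : ∀ x : A, r.eval x ∈ IsLocalRing.maximalIdeal A := fun x => by
    simp only [r, Polynomial.eval_finsetSum, Polynomial.eval_mul, Polynomial.eval_C]
    exact Ideal.sum_mem _ fun i _ => Ideal.mul_mem_right _ _ (hb _)
  have hrm' : ∀ x : A, r.derivative.eval x ∈ IsLocalRing.maximalIdeal A := fun x => by
    simp only [r, Polynomial.derivative_sum, Polynomial.eval_finsetSum, Polynomial.derivative_C_mul,
      Polynomial.eval_mul, Polynomial.eval_C]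
    exact Ideal.sum_mem _ fun i _ => Ideal.mul_mem_right _ _ (hb _)
  obtain ⟨e, he⟩ : ∃ e, d = e + 1 := ⟨d - 1, by omega⟩
  have h0 : H.eval (-1) ∈ IsLocalRing.maximalIdeal A := by
    simp only [H, Polynomial.eval_add, Polynomial.eval_pow, Polynomial.eval_X, he, Nat.add_sub_cancel]
    rw [← add_assoc, pow_succ, show ((-1 : A)) ^ e * (-1) + (-1) ^ e = 0 by ring, zero_add]
    exact hrm _
  have h1 : IsUnit (H.derivative.eval (-1)) := by
    simp only [H, Polynomial.derivative_add, Polynomial.derivative_X_pow, Polynomial.eval_add, he,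
      Nat.add_sub_cancel, Polynomial.eval_mul, Polynomial.eval_C, Polynomial.eval_pow, Polynomial.eval_X]
    rw [← add_assoc]
    have : ((e + 1 : ℕ) : A) * (-1) ^ e + (e : A) * (-1) ^ (e - 1) = (-1) ^ e := by
      rcases e with _ | e
      · simp
      · rw [Nat.add_sub_cancel]; push_cast; ring
    rw [this]
    have hu : IsUnit ((-1 : A) ^ e) := isUnit_one.neg.pow _
    by_contra hn
    exact (IsLocalRing.mem_maximalIdeal _).1
      ((Submodule.add_mem_iff_left _ (hrm' _)).1 ((IsLocalRing.mem_maximalIdeal _).2 hn)) hu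
  obtain ⟨W, hW, hW1⟩ := HenselianLocalRing.is_henselian H hH (-1) h0 h1
  have hWu : IsUnit W := by
    by_contra hn
    refine (IsLocalRing.maximalIdeal.isMaximal A).ne_top ((Ideal.eq_top_iff_one _).2 ?_)
    simpa using Ideal.sub_mem _ hW1 ((IsLocalRing.mem_maximalIdeal W).2 hn)
  obtain ⟨Z, hZ⟩ := (hWu.map f).exists_left_inv
  refine ⟨t * Z, Ideal.mul_mem_right _ _ ht, ?_⟩
  have hWd : (f W) ^ d + ((f W) ^ (d - 1) +
      ∑ i : Fin (d - 1), g.coeff (i.1 + 2) * v * t ^ (i.1 + 1) * (f W) ^ (d - (i.1 + 2))) = 0 := by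
    have h := congrArg f (show H.eval W = 0 from hW)
    simp only [H, r, Polynomial.eval_add, Polynomial.eval_finsetSum, Polynomial.eval_mul, Polynomial.eval_C,
      Polynomial.eval_pow, Polynomial.eval_X, map_add, map_sum, map_mul, map_pow, map_zero, hfb] at h
    exact h
  have hkey : ∀ k, k ≤ d → (f W) ^ k * Z ^ d = Z ^ (d - k) := fun k hk => by
    conv_lhs => rw [show Z ^ d = Z ^ (d - k) * Z ^ k by rw [← pow_add, Nat.sub_add_cancel hk]]
    rw [mul_comm, mul_assoc, ← mul_pow, hZ, one_pow, mul_one]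
  have h2 : 1 + Z + ∑ i : Fin (d - 1), g.coeff (i.1 + 2) * v * t ^ (i.1 + 1) * Z ^ (i.1 + 2) = 0 := by
    have h := congrArg (· * Z ^ d) hWd
    simp only [add_mul, Finset.sum_mul, zero_mul] at h
    rw [hkey d le_rfl, Nat.sub_self, pow_zero, hkey (d - 1) (by omega),
      show d - (d - 1) = 1 by omega, pow_one, ← add_assoc] at h
    refine Eq.trans ?_ h
    refine congrArg _ (Finset.sum_congr rfl fun i _ => ?_)
    rw [mul_assoc (g.coeff (i.1 + 2) * v * t ^ (i.1 + 1)), hkey _ (by omega),
      show d - (d - (i.1 + 2)) = i.1 + 2 by omega]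
  have h3 : g.coeff 0 + g.coeff 1 * (t * Z) +
      ∑ i : Fin (d - 1), g.coeff (i.1 + 2) * (t * Z) ^ (i.1 + 2) =
      g.coeff 0 * (1 + Z + ∑ i : Fin (d - 1), g.coeff (i.1 + 2) * v * t ^ (i.1 + 1) * Z ^ (i.1 + 2)) := by
    rw [mul_add, mul_add, mul_one, Finset.mul_sum]
    refine congrArg₂ (· + ·) (congrArg₂ (· + ·) rfl ?_) (Finset.sum_congr rfl fun i _ => ?_)
    · show g.coeff 1 * (g.coeff 0 * v * Z) = _
      linear_combination (g.coeff 0 * Z) * hv
    · show g.coeff (i.1 + 2) * (g.coeff 0 * v * Z) ^ (i.1 + 2) = _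
      show _ = g.coeff 0 * (g.coeff (i.1 + 2) * v * (g.coeff 0 * v) ^ (i.1 + 1) * Z ^ (i.1 + 2))
      ring
  rw [Polynomial.eval_eq_sum_range' (lt_of_lt_of_eq hd (show d + 1 = (d - 1) + 2 by omega)),
    Finset.sum_range_succ', Finset.sum_range_succ']
  rw [h2, mul_zero, ← Fin.sum_univ_eq_sum_range (fun i => g.coeff (i + 1 + 1) * (t * Z) ^ (i + 1 + 1))] at *
  linear_combination h3

/-- The local ring of the interior is henselian. -/
theorem henselian_of_small {A L : Type u} [CommRing A] [CommRing L] [HenselianLocalRing A] [IsLocalRing L]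
    (f : A →+* L) (hm : ∀ b ∈ IsLocalRing.maximalIdeal L, ∃ c ∈ IsLocalRing.maximalIdeal A, f c = b) :
    HenselianLocalRing L where
  is_henselian F _ c h0 h1 := by
    obtain ⟨y, hy, hroot⟩ := exists_root_small f hm (Polynomial.taylor c F)
      (by rw [Polynomial.taylor_coeff_zero]; exact h0) (by rw [Polynomial.taylor_coeff_one]; exact h1)
    refine ⟨y + c, ?_, by rwa [add_sub_cancel_right]⟩
    rw [Polynomial.IsRoot, ← Polynomial.taylor_eval]
    exact hroot

theorem henselian_away {A : Type u} [CommRing A] [HenselianLocalRing A] {a : A} (h : PrincNear a)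
    (ha : a ∈ nonZeroDivisors A) (L : Type u) [CommRing L] [Algebra A L] [IsLocalization.Away a L]
    [IsLocalRing L] : HenselianLocalRing L := by
  refine henselian_of_small (algebraMap A L) fun b hb => ?_
  rcases h.isUnit_or_range L ha b with hu | ⟨c, rfl⟩
  · exact absurd hu ((IsLocalRing.mem_maximalIdeal _).1 hb)
  · exact ⟨c, (IsLocalRing.mem_maximalIdeal _).2 fun hu => (IsLocalRing.mem_maximalIdeal _).1 hb (hu.map _), rfl⟩

theorem henselian_of_ringEquiv {R S : Type u} [CommRing R] [CommRing S] [HenselianLocalRing R] [IsLocalRing S]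
    (e : R ≃+* S) : HenselianLocalRing S where
  is_henselian F hF c h0 h1 := by
    obtain ⟨y, hy, hyc⟩ := HenselianLocalRing.is_henselian (F.map e.symm.toRingHom) (hF.map _) (e.symm c)
      (by
        rw [IsLocalRing.mem_maximalIdeal, mem_nonunits_iff, show e.symm c = e.symm.toRingHom c from rfl,
          Polynomial.eval_map_apply]
        exact fun hu => (IsLocalRing.mem_maximalIdeal _).1 h0 (by simpa using hu.map e))
      (by
        rw [Polynomial.derivative_map, show e.symm c = e.symm.toRingHom c from rfl, Polynomial.eval_map_apply]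
        exact h1.map _)
    refine ⟨e y, ?_, ?_⟩
    · have := congrArg e (show (F.map e.symm.toRingHom).eval y = 0 from hy)
      rw [← e.symm_apply_apply y] at this
      rw [show e.symm (e y) = e.symm.toRingHom (e y) from rfl, Polynomial.eval_map_apply] at this
      simpa using this
    · rw [IsLocalRing.mem_maximalIdeal, mem_nonunits_iff] at hyc ⊢
      exact fun hu => hyc (by simpa using hu.map e.symm)

theorem henselian_interior {P : ModPair.Pair.{u}} [IsAffine P.total] [IsLocalRing Γ(P.total, ⊤)]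
    [HenselianLocalRing Γ(P.total, ⊤)] (hP : IsBlowupLocal P) :
    HenselianLocalRing Γ((ModPair.interior P.mod : Scheme.{u}), ⊤) := by
  obtain ⟨a, ha, hI, hint⟩ := exists_modulus P
  have hpr := princNear_of_local hP hI hint
  haveI := hpr.isLocalRing_away Γ(P.total, P.total.basicOpen a) ha
  haveI := henselian_away hpr ha Γ(P.total, P.total.basicOpen a)
  rw [hint]
  haveI := (interiorEquiv (P.total.basicOpen a)).symm.isLocalRing
  exact henselian_of_ringEquiv (interiorEquiv (P.total.basicOpen a)).symm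

end

end GrothLib.ModVal8
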