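import Groth.Agent.Lib.ModVal8.Alg
import Mathlib.AlgebraicGeometry.ValuativeCriterion

/-!
# Lifting along proper morphisms over a valuation pushout
-/

set_option autoImplicit false
set_option backward.isDefEq.respectTransparency false
set_option linter.style.haveILetI false

universe u

open CategoryTheory CategoryTheory.Limits AlgebraicGeometry

namespace GrothLib.ModVal8

/-- A morphism from the spectrum of a local ring lands in every open containing the image of the closed point. -/
theorem range_subset_of_closedPoint {A : Type u} [CommRing A] [IsLocalRing A] {X : Scheme.{u}}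
    (g : Spec (CommRingCat.of A) ⟶ X) {W : X.Opens} (h : g (IsLocalRing.closedPoint A) ∈ W) :
    Set.range g ⊆ W := by
  rintro _ ⟨x, rfl⟩
  exact ((IsLocalRing.specializes_closedPoint x).map g.continuous).mem_open W.2 h

/-- A morphism into an affine open is given by a homomorphism of rings. -/
theorem exists_fac_fromSpec {R : CommRingCat.{u}} {X : Scheme.{u}} {W : X.Opens} (hW : IsAffineOpen W)
    (g : Spec R ⟶ X) (h : Set.range g ⊆ W) : ∃ φ : Γ(X, W) ⟶ R, Spec.map φ ≫ hW.fromSpec = g := by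
  refine ⟨Spec.preimage (IsOpenImmersion.lift hW.fromSpec g (by rwa [hW.range_fromSpec])), ?_⟩
  rw [Spec.map_preimage, IsOpenImmersion.lift_fac]

theorem ext_fromSpec {R : CommRingCat.{u}} {X : Scheme.{u}} {W : X.Opens} (hW : IsAffineOpen W)
    {φ ψ : Γ(X, W) ⟶ R} (h : Spec.map φ ≫ hW.fromSpec = Spec.map ψ ≫ hW.fromSpec) : φ = ψ :=
  Spec.map_injective ((cancel_mono _).1 h)

variable {A : Type u} [CommRing A] [IsLocalRing A] {a : A} (ha : a ∈ nonZeroDivisors A)
  (L : Type u) [CommRing L] [Algebra A L] [IsLocalization.Away a L] [IsLocalRing L]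
  (𝔭 : Ideal A) [𝔭.IsPrime]

include ha in
/-- **Lifting.** -/
theorem exists_lift (h𝔭 : 𝔭 = (IsLocalRing.maximalIdeal L).comap (algebraMap A L)) (hval : ValuationRing (A ⧸ 𝔭))
    (hbij : Set.BijOn (algebraMap A (Localization.AtPrime 𝔭)) (𝔭 : Set A)
      (IsLocalRing.maximalIdeal (Localization.AtPrime 𝔭) : Set (Localization.AtPrime 𝔭)))
    {Q X : Scheme.{u}} (q : Q ⟶ X) [IsProper q] (g : Spec (CommRingCat.of A) ⟶ X)
    (h0 : Spec (CommRingCat.of L) ⟶ Q)
    (hh0 : h0 ≫ q = Spec.map (CommRingCat.ofHom (algebraMap A L)) ≫ g) :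
    ∃ h : Spec (CommRingCat.of A) ⟶ Q, h ≫ q = g := by
  haveI := hval
  let R := A ⧸ 𝔭
  let K := IsLocalRing.ResidueField L
  let π : A →+* R := Ideal.Quotient.mk 𝔭
  let ρ : R →+* K := Ideal.Quotient.lift 𝔭 ((IsLocalRing.residue L).comp (algebraMap A L))
    fun x hx => (IsLocalRing.residue_eq_zero_iff _).2 (Ideal.mem_comap.1 (h𝔭.le hx))
  letI : Algebra R K := ρ.toAlgebra
  haveI : IsFractionRing R K := isFractionRing_residueField (a := a) L 𝔭 h𝔭 fun _ => rfl
  let res : CommRingCat.of L ⟶ CommRingCat.of K := CommRingCat.ofHom (IsLocalRing.residue L)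
  have hsq : CommRingCat.ofHom (algebraMap A L) ≫ res = CommRingCat.ofHom π ≫ CommRingCat.ofHom (algebraMap R K) :=
    rfl
  let S : ValuativeCommSq q :=
    { R := R
      K := K
      i₁ := Spec.map res ≫ h0
      i₂ := Spec.map (CommRingCat.ofHom π) ≫ g
      commSq := ⟨by
        rw [Category.assoc, hh0, ← Spec.map_comp_assoc, ← Spec.map_comp_assoc, hsq]⟩ }
  have hex : ValuativeCriterion.Existence q :=
    (UniversallyClosed.eq_valuativeCriterion.le _ _ q (inferInstance : UniversallyClosed q)).1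
  haveI := hex S
  let lV : Spec (CommRingCat.of R) ⟶ Q := S.commSq.lift
  have hl : Spec.map (CommRingCat.ofHom (algebraMap R K)) ≫ lV = Spec.map res ≫ h0 := S.commSq.fac_left
  have hr : lV ≫ q = Spec.map (CommRingCat.ofHom π) ≫ g := S.commSq.fac_right
  haveI : IsLocalHom π := IsLocalHom.of_surjective π Ideal.Quotient.mk_surjective
  haveI : IsLocalHom (IsLocalRing.residue L) := inferInstance
  have hcπ : Spec.map (CommRingCat.ofHom π) (IsLocalRing.closedPoint R) = IsLocalRing.closedPoint A :=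
    IsLocalRing.comap_closedPoint π
  have hcres : Spec.map res (IsLocalRing.closedPoint K) = IsLocalRing.closedPoint L :=
    IsLocalRing.comap_closedPoint (IsLocalRing.residue L)
  let y := lV (IsLocalRing.closedPoint R)
  have hy : q y = g (IsLocalRing.closedPoint A) := by
    show q (lV (IsLocalRing.closedPoint R)) = _
    rw [← Scheme.Hom.comp_apply, hr, Scheme.Hom.comp_apply, hcπ]
  obtain ⟨T, hT, hgT, -⟩ := exists_isAffineOpen_mem_and_subset (x := g (IsLocalRing.closedPoint A))
    (U := (⊤ : X.Opens)) trivial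
  obtain ⟨W, hW, hyW, hWT⟩ := exists_isAffineOpen_mem_and_subset (x := y) (U := q ⁻¹ᵁ T) (hy ▸ hgT : q y ∈ T)
  have hlW : Set.range lV ⊆ W := range_subset_of_closedPoint lV hyW
  have h0W : Set.range h0 ⊆ W := by
    refine range_subset_of_closedPoint h0 ?_
    rw [← hcres, ← Scheme.Hom.comp_apply, ← hl, Scheme.Hom.comp_apply]
    exact hlW ⟨_, rfl⟩
  obtain ⟨ψ, hψ⟩ := exists_fac_fromSpec hW h0 h0W
  obtain ⟨χ, hχ⟩ := exists_fac_fromSpec hW lV hlW
  have hψχ : ψ ≫ res = χ ≫ CommRingCat.ofHom (algebraMap R K) := by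
    refine ext_fromSpec hW ?_
    rw [Spec.map_comp, Spec.map_comp, Category.assoc, Category.assoc, hψ, hχ, hl]
  have hmem : ∀ r, ∃ w : A, algebraMap A L w = ψ.hom r := fun r => by
    obtain ⟨c, hc⟩ := Ideal.Quotient.mk_surjective (χ.hom r)
    refine exists_of_sub_mem L ha 𝔭 h𝔭 hbij (c := c) ?_
    rw [← IsLocalRing.residue_eq_zero_iff, map_sub, sub_eq_zero]
    refine (congrArg (fun e => e.hom r) hψχ).trans ?_
    show algebraMap R K (χ.hom r) = _
    rw [← hc]
    rfl
  choose w hw using hmem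
  have hinj := injective_away L ha
  let φ : Γ(Q, W) ⟶ CommRingCat.of A := CommRingCat.ofHom
    { toFun := w
      map_one' := hinj (by rw [hw, map_one, map_one])
      map_mul' := fun r r' => hinj (by rw [hw, map_mul, map_mul, hw, hw])
      map_zero' := hinj (by rw [hw, map_zero, map_zero])
      map_add' := fun r r' => hinj (by rw [hw, map_add, map_add, hw, hw]) }
  have hφ : φ ≫ CommRingCat.ofHom (algebraMap A L) = ψ := CommRingCat.hom_ext (RingHom.ext hw)
  let h := Spec.map φ ≫ hW.fromSpec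
  have hL : Spec.map (CommRingCat.ofHom (algebraMap A L)) ≫ h = h0 := by
    show _ ≫ Spec.map φ ≫ hW.fromSpec = _
    rw [← Category.assoc, ← Spec.map_comp, hφ, hψ]
  refine ⟨h, ?_⟩
  have hhT : Set.range (h ≫ q) ⊆ T := by
    rintro _ ⟨x, rfl⟩
    rw [Scheme.Hom.comp_apply]
    refine hWT ?_
    show (Spec.map φ ≫ hW.fromSpec) x ∈ W
    rw [Scheme.Hom.comp_apply]
    exact hW.range_fromSpec.subset ⟨_, rfl⟩
  have hgT' : Set.range g ⊆ T := range_subset_of_closedPoint g hgT
  obtain ⟨α, hα⟩ := exists_fac_fromSpec hT (h ≫ q) hhT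
  obtain ⟨β, hβ⟩ := exists_fac_fromSpec hT g hgT'
  have h1 : α ≫ CommRingCat.ofHom (algebraMap A L) = β ≫ CommRingCat.ofHom (algebraMap A L) := by
    refine ext_fromSpec hT ?_
    rw [Spec.map_comp, Spec.map_comp, Category.assoc, Category.assoc, hα, hβ, ← Category.assoc, hL, hh0]
  have h2 : α = β := CommRingCat.hom_ext (RingHom.ext fun r => hinj (congrArg (fun e => e.hom r) h1))
  rw [← hα, ← hβ, h2]

end GrothLib.ModVal8
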