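import Groth.Agent.Lib.ModVal8.Lift
import Groth.Agent.Lib.ModPair19.Basic
import Groth.Agent.Lib.RLpsi8.ZarFinLocal
import Groth.Agent.Lib.BlowUp.Exists
import Groth.Agent.Lib.BlowUp.Universal
import Groth.Agent.Lib.Nagata6.Proper

/-!
# Modulus pairs local for admissible blow-ups
-/

set_option autoImplicit false
set_option backward.isDefEq.respectTransparency false
set_option linter.style.haveILetI false

universe u

open CategoryTheory CategoryTheory.Limits AlgebraicGeometry TopologicalSpace Opposite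

namespace GrothLib.ModVal8

noncomputable section

open GrothLib.RLpsi8.ZarFinLocal

/-- Locality for admissible blow-ups. -/
def IsBlowupLocal (P : ModPair.Pair.{u}) : Prop :=
  ∀ (Q X : ModPair.Pair.{u}) (q : Q ⟶ X), ModPair.Pair.admBlowup q →
    ∀ g : P ⟶ X, ∃ h : P ⟶ Q, h ≫ q = g

theorem pair_hom_cond {P X : ModPair.Pair.{u}} {U : Scheme.{u}} {IU : U.IdealSheafData} (v : U ⟶ X.total)
    (hv : ModPair.IsMinimal IU X.mod v) (g : P ⟶ X) (h : P.total ⟶ U) (hh : h ≫ v = g.hom) :
    ModPair.IsAmbient P.mod IU h := by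
  show P.mod ≤ IU.comap h
  rw [show IU = X.mod.comap v from hv, ← Scheme.IdealSheafData.comap_comp, hh]
  exact g.cond

/-- A family of minimal morphisms of pairs gives one of schemes. -/
theorem exists_lift_pair {P X : ModPair.Pair.{u}} {ι : Type u} {U : ι → ModPair.Pair.{u}} (v : ∀ i, U i ⟶ X)
    (hv : ∀ i, ModPair.IsMinimal (U i).mod X.mod (v i).hom) (g : P ⟶ X) {Q : MorphismProperty Scheme.{u}}
    (hP : IsLocalFor Q P.total) (hs : ∀ x : X.total, ∃ (i : ι) (y : (U i).total), (v i).hom.base y = x)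
    (hQ : ∀ i, Q (v i).hom) : ∃ (i : ι) (h : P ⟶ U i), h ≫ v i = g := by
  obtain ⟨i, h, hh⟩ := hP.ofArrows (fun i => (v i).hom) (fun x => hs x) hQ g.hom
  exact ⟨i, ⟨h, pair_hom_cond (v i).hom (hv i) g h hh⟩, ModPair.Pair.Hom.ext hh⟩

/-- The pair with trivial modulus. -/
def trivialPair (X : Scheme.{u}) : ModPair.Pair.{u} := ⟨X, ⊤, GrothLib.BlowUp.isEffCartierIdeal_top⟩

/-- Locality of a pair for minimal coverings gives locality of its total space. -/
theorem isLocalFor_of_pair {P : ModPair.Pair.{u}} {Q : MorphismProperty Scheme.{u}}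
    (hP : ∀ (X : ModPair.Pair.{u}) (ι : Type u) (U : ι → ModPair.Pair.{u}) (v : ∀ i, U i ⟶ X),
      (∀ i, ModPair.IsMinimal (U i).mod X.mod (v i).hom ∧ Q (v i).hom) →
      (∀ x : X.total, ∃ (i : ι) (y : (U i).total), (v i).hom.base y = x) →
      ∀ g : P ⟶ X, ∃ (i : ι) (h : P ⟶ U i), h ≫ v i = g) : IsLocalFor Q P.total := by
  intro X R hR g
  choose Y w hw y hy using fun x : X => Scheme.JointlySurjective.exists_eq R hR x
  obtain ⟨i, h, hh⟩ := hP (trivialPair X) X (fun x => trivialPair (Y x))
    (fun x => ⟨w x, (Scheme.IdealSheafData.comap_top _).ge⟩)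
    (fun x => ⟨(Scheme.IdealSheafData.comap_top _).symm, hR.2 (hw x)⟩)
    (fun x => ⟨x, y x, hy x⟩) ⟨g, le_top.trans (Scheme.IdealSheafData.comap_top _).ge⟩
  exact ⟨Y i, w i, h.hom, hw i, congrArg ModPair.Pair.Hom.hom hh⟩

/-! ## The affine local total space -/

variable (P : ModPair.Pair.{u}) [IsAffine P.total] [IsLocalRing Γ(P.total, ⊤)]

theorem eq_top_of_closedPoint_mem {U : P.total.Opens}
    (h : P.total.isoSpec.inv (IsLocalRing.closedPoint Γ(P.total, ⊤)) ∈ U) : U = ⊤ := by
  refine top_unique fun x _ => ?_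
  have hx : P.total.isoSpec.inv (P.total.isoSpec.hom x) = x := by
    rw [← Scheme.Hom.comp_apply, Iso.hom_inv_id]; rfl
  rw [← hx]
  exact range_subset_of_closedPoint P.total.isoSpec.inv h ⟨_, rfl⟩

theorem exists_modulus : ∃ a : Γ(P.total, ⊤), a ∈ nonZeroDivisors Γ(P.total, ⊤) ∧
    P.mod.ideal ⟨⊤, isAffineOpen_top P.total⟩ = Ideal.span {a} ∧ ModPair.interior P.mod = P.total.basicOpen a := by
  obtain ⟨⟨U, hU⟩, hxU, a, ha, haI⟩ := P.isEffCartier (P.total.isoSpec.inv (IsLocalRing.closedPoint Γ(P.total, ⊤)))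
  obtain rfl : U = ⊤ := eq_top_of_closedPoint_mem P hxU
  refine ⟨a, ha, haI, Opens.ext (Set.ext fun x => ?_)⟩
  show x ∉ (P.mod.support : Set P.total) ↔ x ∈ P.total.basicOpen a
  rw [SetLike.mem_coe, Scheme.IdealSheafData.mem_support_iff_of_mem (U := ⟨⊤, hU⟩) (show x ∈ (⊤ : P.total.Opens) from trivial),
    haI, Scheme.zeroLocus_span, Scheme.mem_zeroLocus_iff]
  simp

variable {P}

/-- Locality for admissible blow-ups makes the relevant ideals principal. -/
theorem princNear_of_local (hP : IsBlowupLocal P) {a : Γ(P.total, ⊤)}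
    (hI : P.mod.ideal ⟨⊤, isAffineOpen_top P.total⟩ = Ideal.span {a})
    (hint : ModPair.interior P.mod = P.total.basicOpen a) : PrincNear a := by
  intro J hJfg hJle n hn
  let F : P.total.IdealSheafData := Scheme.IdealSheafData.ofIdealTop J
  have hFtop : F.ideal ⟨⊤, isAffineOpen_top P.total⟩ = J := by simp [F]
  have hFint : F.support.compl = P.total.basicOpen a := by
    refine Opens.ext (Set.ext fun x => ?_)
    show x ∉ (F.support : Set P.total) ↔ x ∈ P.total.basicOpen a
    rw [SetLike.mem_coe, Scheme.IdealSheafData.mem_support_iff_of_mem (U := ⟨⊤, isAffineOpen_top P.total⟩)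
      (show x ∈ (⊤ : P.total.Opens) from trivial), hFtop, Scheme.mem_zeroLocus_iff]
    refine ⟨fun h => ?_, fun hx h => ?_⟩
    · by_contra hx
      refine h fun b hb hxb => hx ?_
      obtain ⟨c, rfl⟩ := Ideal.mem_span_singleton'.1 (hJle hb)
      rw [Scheme.basicOpen_mul] at hxb
      exact hxb.2
    · rcases Nat.eq_zero_or_pos n with rfl | hn0
      · refine h _ hn ?_
        rw [pow_zero, Scheme.basicOpen_of_isUnit _ isUnit_one]
        trivial
      · refine h _ hn ?_
        rw [Scheme.mem_basicOpen_top] at hx ⊢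
        rw [map_pow]
        exact hx.pow n
  have hft : _root_.BlowUp.IsFiniteTypeIdeal F := fun W => by
    show (F.ideal W).FG
    rw [← F.map_ideal (U := W) (V := ⟨⊤, isAffineOpen_top P.total⟩) (le_top : W.1 ≤ ⊤), hFtop]
    exact hJfg.map _
  obtain ⟨Y, b, hb⟩ := GrothLib.BlowUp.exists_isBlowUp P.total F
  have hb1 : ModPair.interior (P.mod.comap b) = ModPair.interior (F.comap b) := by
    rw [GrothLib.ModPair19.interior_comap, GrothLib.ModPair19.interior_comap]
    exact congrArg (b ⁻¹ᵁ ·) (hint.trans hFint.symm)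
  have hb2 : _root_.BlowUp.IsEffCartierIdeal (P.mod.comap b) :=
    GrothLib.ModPair19.eff_of_dominant
      (GrothLib.ModPair19.isLocPrincipal_comap (GrothLib.ModPair19.isLocPrincipal_of_eff P.isEffCartier) b)
      (hb1 ▸ GrothLib.ModPair19.dominant_interior hb.1)
  let Q : ModPair.Pair.{u} := ⟨Y, P.mod.comap b, hb2⟩
  let q : Q ⟶ P := ⟨b, le_refl _⟩
  have hq : ModPair.Pair.admBlowup q := by
    refine ⟨rfl, GrothLib.Nagata6.isProper_of_isBlowUp hft hb, ?_⟩
    have h := GrothLib.BlowUp.isIso_off_center hb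
    rw [hFint, ← hint] at h
    exact h
  obtain ⟨h, hh⟩ := hP Q P q hq (𝟙 P)
  have hh' : h.hom ≫ b = 𝟙 P.total := congrArg ModPair.Pair.Hom.hom hh
  have hF : _root_.HTop.IsLocPrincipal F := by
    have := GrothLib.ModPair19.isLocPrincipal_comap (GrothLib.ModPair19.isLocPrincipal_of_eff hb.1) h.hom
    rwa [← Scheme.IdealSheafData.comap_comp, hh', Scheme.IdealSheafData.comap_id] at this
  obtain ⟨⟨U, hU⟩, hxU, d, hd⟩ := hF (P.total.isoSpec.inv (IsLocalRing.closedPoint Γ(P.total, ⊤)))
  obtain rfl : U = ⊤ := eq_top_of_closedPoint_mem P hxU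
  exact ⟨d, hFtop.symm.trans hd⟩

/-! ## The interior -/

variable (a : Γ(P.total, ⊤))

instance : IsLocalization.Away a Γ(P.total, P.total.basicOpen a) :=
  (isAffineOpen_top P.total).isLocalization_basicOpen a

/-- The functions on the interior. -/
def interiorEquiv (U : P.total.Opens) : Γ((U : Scheme.{u}), ⊤) ≃+* Γ(P.total, U) :=
  U.topIso.commRingCatIsoToRingEquiv

theorem isAffine_interior : IsAffine (P.total.basicOpen a : Scheme.{u}) :=
  (isAffineOpen_top P.total).basicOpen a

theorem toSpecΓ_fromSpec_basicOpen (z : Spec Γ(P.total, P.total.basicOpen a)) :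
    (P.total.toSpecΓ (((isAffineOpen_top P.total).basicOpen a).fromSpec z)).asIdeal =
      z.asIdeal.comap (algebraMap Γ(P.total, ⊤) Γ(P.total, P.total.basicOpen a)) := by
  rw [← (isAffineOpen_top P.total).map_fromSpec ((isAffineOpen_top P.total).basicOpen a)
      (homOfLE (le_top : P.total.basicOpen a ≤ ⊤)).op, IsAffineOpen.fromSpec_top, Scheme.Hom.comp_apply,
    ← Scheme.isoSpec_hom, ← Scheme.Hom.comp_apply, Iso.inv_hom_id]
  rfl

variable [IsLocalRing Γ(P.total, P.total.basicOpen a)]

/-- The closed point of the interior. -/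
def interiorPoint : (P.total.basicOpen a : Scheme.{u}) :=
  ((isAffineOpen_top P.total).basicOpen a).isoSpec.inv (IsLocalRing.closedPoint Γ(P.total, P.total.basicOpen a))

theorem isClosed_interiorPoint : IsClosed ({interiorPoint a} : Set (P.total.basicOpen a : Scheme.{u})) := by
  have h : IsClosed ({IsLocalRing.closedPoint Γ(P.total, P.total.basicOpen a)} :
      Set (Spec Γ(P.total, P.total.basicOpen a))) :=
    (PrimeSpectrum.isClosed_singleton_iff_isMaximal _).2 (IsLocalRing.maximalIdeal.isMaximal _)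
  have := (((isAffineOpen_top P.total).basicOpen a).isoSpec.inv).homeomorph.isClosedMap _ h
  rwa [Set.image_singleton] at this

theorem eq_interiorPoint {p : (P.total.basicOpen a : Scheme.{u})}
    (hp : IsClosed ({p} : Set (P.total.basicOpen a : Scheme.{u}))) : p = interiorPoint a := by
  let e := ((isAffineOpen_top P.total).basicOpen a).isoSpec
  have h := e.hom.homeomorph.isClosedMap _ hp
  rw [Set.image_singleton] at h
  have h1 : IsLocalRing.closedPoint Γ(P.total, P.total.basicOpen a) = e.hom p := by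
    have hs : e.hom p ⤳ IsLocalRing.closedPoint Γ(P.total, P.total.basicOpen a) :=
      IsLocalRing.specializes_closedPoint _
    exact Set.mem_singleton_iff.1 (hs.mem_closed h rfl)
  show p = e.inv _
  rw [h1, ← Scheme.Hom.comp_apply, Iso.hom_inv_id]
  rfl

theorem prime_eq {p : (P.total.basicOpen a : Scheme.{u})}
    (hp : IsClosed ({p} : Set (P.total.basicOpen a : Scheme.{u}))) :
    (P.total.toSpecΓ ((P.total.basicOpen a).ι p)).asIdeal =
      (IsLocalRing.maximalIdeal Γ(P.total, P.total.basicOpen a)).comap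
        (algebraMap Γ(P.total, ⊤) Γ(P.total, P.total.basicOpen a)) := by
  rw [eq_interiorPoint a hp]
  exact toSpecΓ_fromSpec_basicOpen a (IsLocalRing.closedPoint Γ(P.total, P.total.basicOpen a))

omit [IsLocalRing Γ(P.total, P.total.basicOpen a)] in
/-- **The pushout description implies locality.** -/
theorem isBlowupLocal_of_pushout (ha : a ∈ nonZeroDivisors Γ(P.total, ⊤))
    (hint : ModPair.interior P.mod = P.total.basicOpen a)
    [IsLocalRing Γ(P.total, P.total.basicOpen a)]
    (h : ∀ p : (ModPair.interior P.mod : Scheme.{u}),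
        IsClosed ({p} : Set (ModPair.interior P.mod : Scheme.{u})) →
          ValuationRing (Γ(P.total, ⊤) ⧸
            (P.total.toSpecΓ.base ((ModPair.interior P.mod).ι.base p)).asIdeal) ∧
          Set.BijOn (algebraMap Γ(P.total, ⊤) (Localization.AtPrime
              (P.total.toSpecΓ.base ((ModPair.interior P.mod).ι.base p)).asIdeal))
            ((P.total.toSpecΓ.base ((ModPair.interior P.mod).ι.base p)).asIdeal : Set Γ(P.total, ⊤))
            (IsLocalRing.maximalIdeal (Localization.AtPrime
              (P.total.toSpecΓ.base ((ModPair.interior P.mod).ι.base p)).asIdeal) :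
              Set (Localization.AtPrime
                (P.total.toSpecΓ.base ((ModPair.interior P.mod).ι.base p)).asIdeal))) :
    IsBlowupLocal P := by
  rw [hint] at h
  obtain ⟨hval, hbij⟩ := h _ (isClosed_interiorPoint a)
  intro Q X q hq g
  obtain ⟨hmin, hproper, hiso⟩ := hq
  haveI := hproper
  haveI := hiso
  have hle : P.total.basicOpen a ≤ g.hom ⁻¹ᵁ ModPair.interior X.mod :=
    hint ▸ GrothLib.ModPair19.interior_le_of_isAmbient g.cond
  let D := P.total.basicOpen a
  let hD := (isAffineOpen_top P.total).basicOpen a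
  let h1 : (D : Scheme.{u}) ⟶ Q.total :=
    P.total.homOfLE hle ≫ (g.hom ∣_ ModPair.interior X.mod) ≫ inv (q.hom ∣_ ModPair.interior X.mod) ≫
      (q.hom ⁻¹ᵁ ModPair.interior X.mod).ι
  have hh1 : h1 ≫ q.hom = D.ι ≫ g.hom := by
    simp only [h1, Category.assoc]
    rw [← morphismRestrict_ι, IsIso.inv_hom_id_assoc, morphismRestrict_ι, ← Category.assoc, Scheme.homOfLE_ι]
  obtain ⟨t, ht⟩ := exists_lift ha Γ(P.total, D) _ (prime_eq a (isClosed_interiorPoint a)) hval hbij
    q.hom (P.total.isoSpec.inv ≫ g.hom) (hD.isoSpec.inv ≫ h1) (by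
      rw [Category.assoc, hh1, ← Category.assoc, ← Category.assoc]
      congr 1
      rw [← IsAffineOpen.fromSpec_top]
      exact ((isAffineOpen_top P.total).map_fromSpec hD (homOfLE (le_top : D ≤ ⊤)).op).symm)
  refine ⟨⟨P.total.isoSpec.hom ≫ t, pair_hom_cond q.hom hmin g _ ?_⟩, ModPair.Pair.Hom.ext ?_⟩ <;>
  · show (P.total.isoSpec.hom ≫ t) ≫ q.hom = g.hom
    rw [Category.assoc, ht, Iso.hom_inv_id_assoc]

/-- **Locality implies the pushout description.** -/
theorem pushout_of_isBlowupLocal (hP : IsBlowupLocal P) :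
    IsAffine (ModPair.interior P.mod : Scheme.{u}) ∧
      IsLocalRing Γ((ModPair.interior P.mod : Scheme.{u}), ⊤) ∧
      ∀ p : (ModPair.interior P.mod : Scheme.{u}),
        IsClosed ({p} : Set (ModPair.interior P.mod : Scheme.{u})) →
          ValuationRing (Γ(P.total, ⊤) ⧸
            (P.total.toSpecΓ.base ((ModPair.interior P.mod).ι.base p)).asIdeal) ∧
          Set.BijOn (algebraMap Γ(P.total, ⊤) (Localization.AtPrime
              (P.total.toSpecΓ.base ((ModPair.interior P.mod).ι.base p)).asIdeal))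
            ((P.total.toSpecΓ.base ((ModPair.interior P.mod).ι.base p)).asIdeal : Set Γ(P.total, ⊤))
            (IsLocalRing.maximalIdeal (Localization.AtPrime
              (P.total.toSpecΓ.base ((ModPair.interior P.mod).ι.base p)).asIdeal) :
              Set (Localization.AtPrime
                (P.total.toSpecΓ.base ((ModPair.interior P.mod).ι.base p)).asIdeal)) := by
  obtain ⟨a, ha, hI, hint⟩ := exists_modulus P
  have hpr := princNear_of_local hP hI hint
  haveI := hpr.isLocalRing_away Γ(P.total, P.total.basicOpen a) ha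
  rw [hint]
  refine ⟨isAffine_interior a, (interiorEquiv (P.total.basicOpen a)).symm.isLocalRing, fun p hp => ?_⟩
  exact ⟨hpr.valuationRing Γ(P.total, P.total.basicOpen a) ha _ (prime_eq a hp),
    hpr.bijOn Γ(P.total, P.total.basicOpen a) ha _ (prime_eq a hp)⟩

/-- The pushout description in terms of the interior implies locality. -/
theorem isBlowupLocal_of_interior
    (hloc : IsLocalRing Γ((ModPair.interior P.mod : Scheme.{u}), ⊤))
    (h : ∀ p : (ModPair.interior P.mod : Scheme.{u}),
        IsClosed ({p} : Set (ModPair.interior P.mod : Scheme.{u})) →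
          ValuationRing (Γ(P.total, ⊤) ⧸
            (P.total.toSpecΓ.base ((ModPair.interior P.mod).ι.base p)).asIdeal) ∧
          Set.BijOn (algebraMap Γ(P.total, ⊤) (Localization.AtPrime
              (P.total.toSpecΓ.base ((ModPair.interior P.mod).ι.base p)).asIdeal))
            ((P.total.toSpecΓ.base ((ModPair.interior P.mod).ι.base p)).asIdeal : Set Γ(P.total, ⊤))
            (IsLocalRing.maximalIdeal (Localization.AtPrime
              (P.total.toSpecΓ.base ((ModPair.interior P.mod).ι.base p)).asIdeal) :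
              Set (Localization.AtPrime
                (P.total.toSpecΓ.base ((ModPair.interior P.mod).ι.base p)).asIdeal))) :
    IsBlowupLocal P := by
  obtain ⟨a, ha, -, hint⟩ := exists_modulus P
  haveI : IsLocalRing Γ(P.total, P.total.basicOpen a) := by
    rw [hint] at hloc
    exact (interiorEquiv (P.total.basicOpen a)).isLocalRing
  exact isBlowupLocal_of_pushout a ha hint h

end

end GrothLib.ModVal8
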