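import Groth.Prelude.Def_W4c6modpairsegaMP
import Groth.Agent.Lib.ModPair19.Basic
import Groth.Agent.Lib.ModVal8.Centred
import Groth.Agent.Lib.RLpsi8.ValFinite

/-!
# Finiteness over semi-valuation rings
-/

set_option autoImplicit false
set_option backward.isDefEq.respectTransparency false
set_option linter.style.haveILetI false

universe u

open CategoryTheory CategoryTheory.Limits AlgebraicGeometry

namespace GrothLib.ModVal8

noncomputable section

/-- A fibre with isolated points is finite. -/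
theorem finite_preimage_of_ptDim {Y S : Scheme.{u}} (f : Y ⟶ S) [LocallyOfFiniteType f] [QuasiCompact f] (s : S)
    (h : ∀ y : Y, f y = s → GrothLib.AffDom.ptDim (f.asFiber y) ≤ 0) : (f ⁻¹' {s}).Finite := by
  haveI : LocallyOfFiniteType (f.fiberToSpecResidueField s) :=
    MorphismProperty.pullback_snd _ _ inferInstance
  haveI : IsLocallyNoetherian (f.fiber s) :=
    LocallyOfFiniteType.isLocallyNoetherian (f.fiberToSpecResidueField s)
  haveI : IsNoetherian (f.fiber s) := {}
  haveI : Finite ↥(f.fiber s) := RLpsi8.ValFinite.finite_of_forall_isClosed fun z => by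
    obtain ⟨⟨y, rfl⟩, rfl⟩ := (f.fiberHomeo s).symm.surjective z
    exact GrothLib.AffDom.isClosed_of_ptDim_eq_zero
      (le_antisymm (h y rfl) (GrothLib.AffDom.ptDim_nonneg _))
  haveI : Finite (f ⁻¹' {s}) := Finite.of_equiv _ (f.fiberHomeo s).toEquiv
  exact Set.toFinite _

variable {O : Type u} [CommRing O] [IsLocalRing O] (R : ValuationSubring (IsLocalRing.ResidueField O))

/-- The semi-valuation ring. -/
abbrev Semi : Type u := ↥((R.toSubring).comap (IsLocalRing.residue O))

/-- The map to the valuation ring. -/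
def toVal : (Semi R) →+* R where
  toFun x := ⟨IsLocalRing.residue O x.1, x.2⟩
  map_one' := Subtype.ext (map_one _)
  map_mul' x y := Subtype.ext (map_mul _ _ _)
  map_zero' := Subtype.ext (map_zero _)
  map_add' x y := Subtype.ext (map_add _ _ _)

theorem surjective_toVal : Function.Surjective (toVal R) := fun r => by
  obtain ⟨x, hx⟩ := IsLocalRing.residue_surjective (r : IsLocalRing.ResidueField O)
  exact ⟨⟨x, by show IsLocalRing.residue O x ∈ R.toSubring; rw [hx]; exact r.2⟩, Subtype.ext hx⟩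

theorem toVal_eq_zero_iff {x : (Semi R)} : toVal R x = 0 ↔ x.1 ∈ IsLocalRing.maximalIdeal O := by
  rw [← IsLocalRing.residue_eq_zero_iff]
  exact ⟨fun h => congrArg Subtype.val h, fun h => Subtype.ext h⟩

variable (f : (Semi R)) [IsLocalization.Away f O]

theorem isUnit_f : IsUnit (f : O) := IsLocalization.map_units O (⟨f, Submonoid.mem_powers f⟩ : Submonoid.powers f)

theorem exists_mul_eq (x : (Semi R)) (hx : toVal R x = 0) (n : ℕ) : ∃ c : (Semi R), x = f ^ n * c := by
  obtain ⟨v, hv⟩ := (isUnit_f R f).exists_left_inv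
  have hx' : v ^ n * x.1 ∈ IsLocalRing.maximalIdeal O := Ideal.mul_mem_left _ _ ((toVal_eq_zero_iff R).1 hx)
  refine ⟨⟨v ^ n * x.1, ?_⟩, Subtype.ext ?_⟩
  · show IsLocalRing.residue O _ ∈ R.toSubring
    rw [(IsLocalRing.residue_eq_zero_iff _).2 hx']
    exact zero_mem _
  · show x.1 = f.1 ^ n * (v ^ n * x.1)
    rw [← mul_assoc, ← mul_pow, mul_comm (f : O) v, hv, one_pow, one_mul]

theorem exists_of_toVal_ne_zero {x : (Semi R)} (hx : toVal R x ≠ 0) : ∃ (n : ℕ) (c : (Semi R)), x * c = f ^ n := by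
  have hu : IsUnit (algebraMap (Semi R) O x) := by
    by_contra hu
    exact hx ((toVal_eq_zero_iff R).2 ((IsLocalRing.mem_maximalIdeal _).2 hu))
  obtain ⟨w, hw⟩ := hu.exists_left_inv
  obtain ⟨⟨c, ⟨_, n, rfl⟩⟩, hc⟩ := IsLocalization.surj (Submonoid.powers f) w
  refine ⟨n, c, Subtype.ext ?_⟩
  show algebraMap (Semi R) O (x * c) = algebraMap (Semi R) O (f ^ n)
  rw [map_mul, ← hc, ← mul_assoc, mul_comm _ w, hw, one_mul]

variable {Q : Scheme.{u}} {IQ : Q.IdealSheafData}
  (q : Q ⟶ Spec (CommRingCat.of (Semi R)))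

/-- The modulus. -/
abbrev modF : (Spec (CommRingCat.of (Semi R))).IdealSheafData :=
  Scheme.Hom.ker (Spec.map (CommRingCat.ofHom (Ideal.Quotient.mk (Ideal.span {f}))))

omit [IsLocalization.Away f O] in
theorem mem_interior_iff (p : Spec (CommRingCat.of (Semi R))) : p ∈ ModPair.interior (modF R f) ↔ f ∉ p.asIdeal := by
  show p ∉ (((modF R f)).support : Set _) ↔ _
  rw [Scheme.Hom.support_ker]
  have hr : Set.range (Spec.map (CommRingCat.ofHom (Ideal.Quotient.mk (Ideal.span {f})))) =
      PrimeSpectrum.zeroLocus (Ideal.span {f} : Ideal (Semi R)) := by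
    refine Eq.trans (range_comap_of_surjective _ _ Ideal.Quotient.mk_surjective) ?_
    congr 1
    exact congrArg SetLike.coe Ideal.mk_ker
  rw [hr, (PrimeSpectrum.isClosed_zeroLocus _).closure_eq, PrimeSpectrum.zeroLocus_span]
  exact not_congr ⟨fun h => h rfl, fun h x hx => (Set.mem_singleton_iff.1 hx).symm ▸ h⟩

theorem specializes_generic (hQ : _root_.BlowUp.IsEffCartierIdeal IQ) (hq : ModPair.IsMinimal IQ (modF R f) q)
    {y : Q} (hy : f ∈ (q y).asIdeal) :
    ∃ w : Q, w ⤳ y ∧ (q w).asIdeal = RingHom.ker (toVal R) := by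
  have hint : ∀ z : Q, z ∈ ModPair.interior IQ ↔ f ∉ (q z).asIdeal := fun z => by
    rw [show IQ = ((modF R f)).comap q from hq, GrothLib.ModPair19.interior_comap]
    exact mem_interior_iff R f (q z)
  obtain ⟨U, hyU, b, hb, hbI⟩ := hQ y
  have hsupp : ∀ (z : Q), z ∈ U.1 → (z ∈ ModPair.interior IQ ↔ z ∈ Q.basicOpen b) := fun z hz => by
    show z ∉ (IQ.support : Set Q) ↔ _
    rw [SetLike.mem_coe, Scheme.IdealSheafData.mem_support_iff_of_mem (U := U) hz, hbI, Scheme.zeroLocus_span,
      Scheme.mem_zeroLocus_iff]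
    simp
  have hbu : ¬ IsUnit ((Q.presheaf.germ U.1 y hyU).hom b) := fun hu =>
    (hint y).1 ((hsupp y hyU).2 ((Q.mem_basicOpen b y hyU).2 hu)) hy
  obtain ⟨V, _, _, _, φ, hφ, hloc, hprimes⟩ := GrothLib.ValPoint.exists_valuation_centred U y hyU hb hbu
  let p := Spec.map φ ≫ U.2.fromSpec
  obtain ⟨θ, hθ⟩ := Spec.map_surjective (p ≫ q)
  have hp : ∀ z, p z ∈ U.1 := fun z => by
    show (Spec.map φ ≫ U.2.fromSpec) z ∈ U.1
    rw [Scheme.Hom.comp_apply]
    exact U.2.range_fromSpec.subset ⟨_, rfl⟩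
  have hzero : ∀ z : Spec (CommRingCat.of V), θ.hom f ∈ z.asIdeal ↔ φ.hom b ∈ z.asIdeal := by
    intro z
    have h1 : θ.hom f ∈ z.asIdeal ↔ f ∈ (q (p z)).asIdeal := by
      rw [← Scheme.Hom.comp_apply, ← hθ]
      exact Iff.rfl
    rw [h1, ← not_iff_not, ← hint, hsupp _ (hp z)]
    show p z ∈ Q.basicOpen b ↔ _
    rw [show p z = U.2.fromSpec (Spec.map φ z) from Scheme.Hom.comp_apply _ _ _]
    exact (Iff.of_eq (congrArg (Spec.map φ z ∈ ·) (U.2.fromSpec_preimage_basicOpen b))).trans Iff.rfl
  haveI : IsLocalRing V := inferInstance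
  let g : Spec (CommRingCat.of V) := (⟨⊥, Ideal.isPrime_bot⟩ : PrimeSpectrum V)
  have hθf : θ.hom f ≠ 0 := fun h => hφ (by
    have := (hzero g).1 (show θ.hom f ∈ g.asIdeal by rw [h]; exact Ideal.zero_mem _)
    exact (Submodule.mem_bot V).1 this)
  have hgy : p g ⤳ y := by
    rw [show p g = U.2.fromSpec (Spec.map φ g) from Scheme.Hom.comp_apply _ _ _]
    refine (congrArg (U.2.fromSpec (Spec.map φ g) ⤳ ·) (U.2.fromSpec_primeIdealOf ⟨y, hyU⟩)).mp ?_
    refine Specializes.map ?_ U.2.fromSpec.continuous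
    refine (PrimeSpectrum.le_iff_specializes (Spec.map φ g) (U.2.primeIdealOf ⟨y, hyU⟩)).1 ?_
    intro c hc
    by_contra hcp
    have hu : IsUnit (φ.hom c) := by
      refine (hloc c).1 ?_
      let _ := TopCat.Presheaf.algebra_section_stalk Q.presheaf (⟨y, hyU⟩ : U.1)
      have := U.2.isLocalization_stalk ⟨y, hyU⟩
      exact IsLocalization.map_units (Q.presheaf.stalk y) (⟨c, hcp⟩ : (U.2.primeIdealOf ⟨y, hyU⟩).asIdeal.primeCompl)
    exact hu.ne_zero ((Submodule.mem_bot V).1 hc)
  have hθu : ¬ IsUnit (θ.hom f) := by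
    intro hu
    have hb' : IsUnit (φ.hom b) := by
      by_contra hn
      exact (IsLocalRing.mem_maximalIdeal _).1
        ((hzero (IsLocalRing.closedPoint V)).2 ((IsLocalRing.mem_maximalIdeal _).2 hn)) hu
    exact hbu ((hloc b).2 hb')
  have hker : ∀ x : (Semi R), toVal R x = 0 → θ.hom x = 0 := by
    intro x hx
    by_contra hne
    obtain ⟨m, hm⟩ : θ.hom f ∈ (Ideal.span {θ.hom x}).radical := by
      rw [Ideal.radical_eq_sInf, Ideal.mem_sInf]
      rintro P ⟨hxP, hP⟩
      refine (hzero ⟨P, hP⟩).2 ((hprimes P hP).2 fun hb0 => hne ?_)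
      have h0 := hxP (Ideal.mem_span_singleton_self (θ.hom x))
      rwa [hb0, Submodule.mem_bot] at h0
    obtain ⟨c, hc⟩ := Ideal.mem_span_singleton'.1 hm
    obtain ⟨d, rfl⟩ := exists_mul_eq R f x hx (m + 1)
    rw [map_mul, map_pow] at hc
    refine hθu (IsUnit.of_mul_eq_one (c * θ.hom d) (mul_left_cancel₀ (pow_ne_zero m hθf) ?_))
    rw [mul_one]
    conv_rhs => rw [← hc]
    ring
  refine ⟨p g, hgy, ?_⟩
  have hqg : (q (p g)).asIdeal = RingHom.ker θ.hom := by
    rw [← Scheme.Hom.comp_apply, ← hθ]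
    exact (RingHom.ker_eq_comap_bot θ.hom).symm
  rw [hqg]
  refine le_antisymm (fun x hx => ?_) fun x hx => hker x hx
  by_contra hne
  obtain ⟨n, c, hc⟩ := exists_of_toVal_ne_zero R f (x := x) hne
  refine pow_ne_zero n hθf ?_
  rw [← map_pow, ← hc, map_mul, RingHom.mem_ker.1 hx, zero_mul]

/-- **Finiteness.** -/
theorem isFinite_semiVal (hQ : _root_.BlowUp.IsEffCartierIdeal IQ) (hq : ModPair.IsMinimal IQ (modF R f) q) [IsProper q]
    (hfin : IsFinite (q ∣_ ModPair.interior (modF R f))) : IsFinite q := by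
  haveI : LocallyQuasiFinite q := by
    refine LocallyQuasiFinite.of_finite_preimage_singleton _ fun s => ?_
    have hin : ∀ s, f ∉ s.asIdeal → (q ⁻¹' {s}).Finite := fun s hs => by
      haveI := hfin
      have hs' : s ∈ ModPair.interior (modF R f) := (mem_interior_iff R f s).2 hs
      have h := ((q ∣_ ModPair.interior (modF R f)).finite_preimage (s := {(⟨s, hs'⟩ : (ModPair.interior (modF R f)))})
        (Set.finite_singleton _))
      refine (h.image (q ⁻¹ᵁ ModPair.interior (modF R f)).ι).subset fun z hz => ?_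
      have hzU : z ∈ q ⁻¹ᵁ ModPair.interior (modF R f) := by
        show q z ∈ ModPair.interior (modF R f)
        rw [show q z = s from hz]; exact hs'
      exact ⟨⟨z, hzU⟩, Subtype.ext ((morphismRestrict_base_coe q _ ⟨z, hzU⟩).trans hz), rfl⟩
    by_cases hs : f ∈ s.asIdeal
    swap
    · exact hin s hs
    let ι := Spec.map (CommRingCat.ofHom (toVal R))
    haveI : IsClosedImmersion ι := IsClosedImmersion.spec_of_surjective _ (surjective_toVal R)
    have hsr : s ∈ Set.range ι := by
      refine (range_comap_of_surjective _ _ (surjective_toVal R)).symm.subset ?_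
      intro x hx
      obtain ⟨c, rfl⟩ := exists_mul_eq R f x hx 1
      rw [pow_one]
      exact Ideal.mul_mem_right _ _ hs
    obtain ⟨t, rfl⟩ := hsr
    let q' := pullback.snd q ι
    haveI : IsProper q' := inferInstance
    let η : Spec (CommRingCat.of R) := (⟨⊥, Ideal.isPrime_bot⟩ : PrimeSpectrum R)
    have hη : (ι η).asIdeal = RingHom.ker (toVal R) := (RingHom.ker_eq_comap_bot (toVal R)).symm
    have hηfin : (q' ⁻¹' {η}).Finite := by
      have hnf : f ∉ (ι η).asIdeal := fun hfη => by
        rw [hη, RingHom.mem_ker, toVal_eq_zero_iff] at hfη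
        exact (IsLocalRing.mem_maximalIdeal _).1 hfη (isUnit_f R f)
      refine ((hin _ hnf).preimage (pullback.fst q ι).injective.injOn).subset fun z hz => ?_
      show q (pullback.fst q ι z) = ι η
      rw [← Scheme.Hom.comp_apply, pullback.condition, Scheme.Hom.comp_apply, show q' z = η from hz]
    have hpts : ∀ z, GrothLib.AffDom.ptDim (q'.asFiber z) ≤ 0 := by
      intro z
      have hgen : ∃ z', z' ⤳ z ∧ q' z' = η := by
        by_cases hfz : f ∈ (q (pullback.fst q ι z)).asIdeal
        · obtain ⟨w, hw, hwq⟩ := specializes_generic R f q hQ hq hfz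
          obtain ⟨z', hz'w, hz'η⟩ := Scheme.Pullback.exists_preimage_pullback (f := q) (g := ι) w η
            (PrimeSpectrum.ext (hwq.trans hη.symm))
          refine ⟨z', ?_, hz'η⟩
          rw [← (pullback.fst q ι).isClosedEmbedding.isInducing.specializes_iff, hz'w]
          exact hw
        · refine ⟨z, specializes_rfl, ?_⟩
          refine PrimeSpectrum.ext (le_antisymm (fun r hr => ?_) bot_le)
          obtain ⟨x, rfl⟩ := surjective_toVal R r
          show toVal R x ∈ (⊥ : Ideal R)
          rw [Submodule.mem_bot]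
          by_contra hne
          obtain ⟨n, c, hc⟩ := exists_of_toVal_ne_zero R f hne
          have hxmem : x ∈ (q (pullback.fst q ι z)).asIdeal := by
            rw [← Scheme.Hom.comp_apply, pullback.condition, Scheme.Hom.comp_apply]
            exact hr
          exact hfz ((q (pullback.fst q ι z)).isPrime.mem_of_pow_mem n (hc ▸ Ideal.mul_mem_right c _ hxmem))
      obtain ⟨z', hz', hz'η⟩ := hgen
      refine (GrothLib.FibreGen6.ptDim_le_of_specializes R q' hz').trans ?_
      haveI : Finite ↥(q'.fiber (q' z')) := by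
        have : Finite (q' ⁻¹' {q' z'}) := by rw [hz'η]; exact hηfin.to_subtype
        exact Finite.of_equiv _ (q'.fiberHomeo (q' z')).symm.toEquiv
      haveI : DiscreteTopology ↥(q'.fiber (q' z')) := inferInstance
      exact (GrothLib.AffDom.ptDim_closedPoint (isClosed_discrete _)).le
    refine ((finite_preimage_of_ptDim q' t fun z _ => hpts z).image (pullback.fst q ι)).subset fun y hy => ?_
    obtain ⟨z, hz1, hz2⟩ := Scheme.Pullback.exists_preimage_pullback (f := q) (g := ι) y t hy
    exact ⟨z, hz2, hz1⟩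
  exact IsFinite.of_isProper_of_locallyQuasiFinite q

end

end GrothLib.ModVal8
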